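import Mathlib
import Cfsg.Agent.Lib.Helper4.ThBRes
import Cfsg.Agent.Lib.Helper4.ThBCrit
import Cfsg.Agent.Lib.Helper4.ThBCliffC

/-!
# Gross's theorem (T), block P (plane torus): definitions (helper10)

Linear part: `M ≤ GL(V)` is of *Heisenberg type* (`Heis M`) if every non-scalar element `x` of `M` is
`M`-conjugate to a proper scalar multiple of itself (`y x y⁻¹ = c x`, `c ≠ 1`).
-/

set_option autoImplicit false
set_option linter.unusedSectionVars false

namespace Cfsg.Agent.Helper10.GrossP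

open Cfsg.Agent.Helper4.ThB

section lin

variable {K : Type*} [Field K] {V : Type*} [AddCommGroup V] [Module K V]

/-- `x` acts as a scalar -/
def IsSc (x : V ≃ₗ[K] V) : Prop := ∃ c : K, op x = c • (1 : Module.End K V)

/-- Heisenberg-type linear group: every non-scalar element of `M` is `M`-conjugate to a proper
scalar multiple of itself. -/
def Heis (M : Subgroup (V ≃ₗ[K] V)) : Prop :=
  ∀ x ∈ M, IsSc x ∨ ∃ y ∈ M, ∃ c : K, c ≠ 1 ∧ op (y * x * y⁻¹) = c • op x

/-- `Z` is the subgroup of scalar elements of `M` -/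
def IsScalSub (M Z : Subgroup (V ≃ₗ[K] V)) : Prop := ∀ x, x ∈ Z ↔ x ∈ M ∧ IsSc x

/-- the linear span of the operators of `M` -/
def spanOp (M : Subgroup (V ≃ₗ[K] V)) : Submodule K (Module.End K V) :=
  Submodule.span K {T | ∃ x ∈ M, T = op x}

theorem op_mem_spanOp {M : Subgroup (V ≃ₗ[K] V)} {x : V ≃ₗ[K] V} (hx : x ∈ M) :
    op x ∈ spanOp M := Submodule.subset_span ⟨x, hx, rfl⟩

end lin

end Cfsg.Agent.Helper10.GrossP
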