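import Mathlib
import Cfsg.Agent.Lib.S3801P.GPDefs


/-!
# Gross (T), block P, piece GP-ALG (S3801; designer helper10)

Elementary facts on `spanOp M` (a subalgebra of `End V`), all by `Submodule.span_induction`, and the
subgroup of scalar elements.
-/

set_option autoImplicit false

namespace Cfsg.Agent.Helper10.GrossP

open Cfsg.Agent.Helper4.ThB

variable {K : Type*} [Field K] {V : Type*} [AddCommGroup V] [Module K V]

theorem one_mem_spanOp (M : Subgroup (V ≃ₗ[K] V)) : (1 : Module.End K V) ∈ spanOp M := by
  have h := op_mem_spanOp (M := M) (x := 1) M.one_mem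
  rwa [op_one] at h

theorem spanOp_mul_mem (M : Subgroup (V ≃ₗ[K] V)) {S T : Module.End K V}
    (hS : S ∈ spanOp M) (hT : T ∈ spanOp M) : S * T ∈ spanOp M := by
  unfold spanOp at hS hT ⊢
  induction hS using Submodule.span_induction with
  | mem A hA =>
    obtain ⟨x, hx, rfl⟩ := hA
    induction hT using Submodule.span_induction with
    | mem B hB =>
      obtain ⟨y, hy, rfl⟩ := hB
      rw [← op_mul]
      exact Submodule.subset_span ⟨x * y, M.mul_mem hx hy, rfl⟩
    | zero => rw [mul_zero]; exact Submodule.zero_mem _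
    | add B C _ _ hB hC => rw [mul_add]; exact Submodule.add_mem _ hB hC
    | smul c B _ hB => rw [mul_smul_comm]; exact Submodule.smul_mem _ c hB
  | zero => rw [zero_mul]; exact Submodule.zero_mem _
  | add A B _ _ hA hB => rw [add_mul]; exact Submodule.add_mem _ hA hB
  | smul c A _ hA => rw [smul_mul_assoc]; exact Submodule.smul_mem _ c hA

theorem spanOp_pow_mem (M : Subgroup (V ≃ₗ[K] V)) {S : Module.End K V}
    (hS : S ∈ spanOp M) (n : ℕ) : S ^ n ∈ spanOp M := by
  induction n with
  | zero => rw [pow_zero]; exact one_mem_spanOp M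
  | succ n ih => rw [pow_succ]; exact spanOp_mul_mem M ih hS

/-- an `M`-invariant subspace is invariant under `spanOp M` -/
theorem spanOp_apply_mem (M : Subgroup (V ≃ₗ[K] V)) {U : Submodule K V}
    (hU : Inv (M : Set (V ≃ₗ[K] V)) U) {S : Module.End K V} (hS : S ∈ spanOp M) {u : V}
    (hu : u ∈ U) : S u ∈ U := by
  unfold spanOp at hS
  induction hS using Submodule.span_induction with
  | mem A hA =>
    obtain ⟨x, hx, rfl⟩ := hA
    rw [op_apply]
    exact hU x hx u hu
  | zero => rw [LinearMap.zero_apply]; exact U.zero_mem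
  | add A B _ _ hA hB => rw [LinearMap.add_apply]; exact U.add_mem hA hB
  | smul c A _ hA => rw [LinearMap.smul_apply]; exact U.smul_mem c hA

/-- an operator commuting with `M` commutes with `spanOp M` -/
theorem commute_spanOp (M : Subgroup (V ≃ₗ[K] V)) (b : Module.End K V)
    (hb : ∀ x ∈ M, b * op x = op x * b) {S : Module.End K V} (hS : S ∈ spanOp M) :
    Commute b S := by
  unfold spanOp at hS
  induction hS using Submodule.span_induction with
  | mem A hA =>
    obtain ⟨x, hx, rfl⟩ := hA
    exact hb x hx
  | zero => exact Commute.zero_right b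
  | add A B _ _ hA hB => exact Commute.add_right hA hB
  | smul c A _ hA => exact Commute.smul_right hA c

/-- a map intertwining `M` on `U` intertwines `spanOp M` on `U` -/
theorem intertwine_spanOp (M : Subgroup (V ≃ₗ[K] V)) (U : Submodule K V) (f : Module.End K V)
    (hf : ∀ g ∈ M, ∀ u ∈ U, f (g u) = g (f u)) {S : Module.End K V} (hS : S ∈ spanOp M) {u : V}
    (hu : u ∈ U) : f (S u) = S (f u) := by
  unfold spanOp at hS
  induction hS using Submodule.span_induction with
  | mem A hA =>
    obtain ⟨x, hx, rfl⟩ := hA
    rw [op_apply, op_apply]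
    exact hf x hx u hu
  | zero => rw [LinearMap.zero_apply, LinearMap.zero_apply, map_zero]
  | add A B _ _ hA hB => rw [LinearMap.add_apply, LinearMap.add_apply, map_add, hA, hB]
  | smul c A _ hA => rw [LinearMap.smul_apply, LinearMap.smul_apply, map_smul, hA]

end Cfsg.Agent.Helper10.GrossP
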