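import Mathlib
import Cfsg.Agent.Lib.S3801P.GPDefs


/-!
# Gross (T), block P, piece GP-TRACE (S3801; designer helper10)

A non-scalar element of a Heisenberg-type group has trace `0`: `y x y⁻¹ = c x` with `c ≠ 1`, and
`tr (y x y⁻¹) = tr x` (`LinearMap.trace_mul_comm`), so `(1 - c) tr x = 0`.
-/

set_option autoImplicit false

namespace Cfsg.Agent.Helper10.GrossP

open Cfsg.Agent.Helper4.ThB

variable {K : Type*} [Field K] {V : Type*} [AddCommGroup V] [Module K V]

theorem trace_zero [FiniteDimensional K V] (M : Subgroup (V ≃ₗ[K] V)) (hH : Heis M)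
    (x : V ≃ₗ[K] V) (hx : x ∈ M) (hns : ¬ IsSc x) : LinearMap.trace K V (op x) = 0 := by
  rcases hH x hx with h | ⟨y, -, c, hc, hyx⟩
  · exact absurd h hns
  · have h1 : LinearMap.trace K V (op (y * x * y⁻¹)) = LinearMap.trace K V (op x) := by
      rw [op_mul, LinearMap.trace_mul_comm, op_mul, ← mul_assoc, op_inv_mul, one_mul]
    rw [hyx, map_smul, smul_eq_mul] at h1
    have h2 : (c - 1) * LinearMap.trace K V (op x) = 0 := by
      rw [sub_mul, one_mul, h1, sub_self]
    rcases mul_eq_zero.mp h2 with h3 | h3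
    · exact absurd (sub_eq_zero.mp h3) hc
    · exact h3

end Cfsg.Agent.Helper10.GrossP
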