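import Mathlib
import Cfsg.Agent.Lib.S3801P.GPDefs
import Cfsg.Agent.Lib.S3801P.GPTrace

/-!
# Gross (T), block P, piece GP-LININD (S3801; designer helper10)

Elements of an IRREDUCIBLE Heisenberg-type group `N` in pairwise different cosets of the scalars are
linearly independent in `End V`.  Proof: if `∑ c i • op (r i) = 0`, fix `j`, multiply on the right by
`op (r j)⁻¹` and take the trace: for `i ≠ j` the element `r i * (r j)⁻¹ ∈ N` is not scalar (else
`(r j)⁻¹ * r i = (r j)⁻¹ * (r i * (r j)⁻¹) * r j` is the same scalar, and `hd j i` gives `j = i`), so its trace is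
`0` (`trace_zero`); the term `i = j` gives `c j * finrank K V`, and `(finrank K V : K) ≠ 0` by
`Cfsg.Agent.Helper4.ThB.finrank_ne_zero N hirr hN`.
-/

set_option autoImplicit false

namespace Cfsg.Agent.Helper10.GrossP

open Cfsg.Agent.Helper4.ThB

variable {K : Type*} [Field K] {V : Type*} [AddCommGroup V] [Module K V]

theorem linIndep [IsAlgClosed K] [FiniteDimensional K V] [Nontrivial V]
    (N : Subgroup (V ≃ₗ[K] V)) [Finite N] (hirr : Irr (N : Set (V ≃ₗ[K] V)))
    (hN : (Nat.card N : K) ≠ 0) (hH : Heis N) {ι : Type*} [Fintype ι] (r : ι → V ≃ₗ[K] V)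
    (hr : ∀ i, r i ∈ N) (hd : ∀ i j, IsSc ((r i)⁻¹ * r j) → i = j) (c : ι → K)
    (h0 : ∑ i, c i • op (r i) = 0) : ∀ i, c i = 0 := by
  classical
  intro j
  have hfr : (Module.finrank K V : K) ≠ 0 := Cfsg.Agent.Helper4.ThB.finrank_ne_zero N hirr hN
  have h1 : ∑ i, c i • (op (r i) * op (r j)⁻¹) = 0 := by
    have h := congrArg (fun T : Module.End K V => T * op (r j)⁻¹) h0
    simp only [Finset.sum_mul, zero_mul, smul_mul_assoc] at h
    exact h
  have h2 := congrArg (LinearMap.trace K V) h1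
  rw [map_sum, map_zero] at h2
  simp only [map_smul, smul_eq_mul] at h2
  have h3 : ∀ i ∈ Finset.univ, i ≠ j →
      c i * LinearMap.trace K V (op (r i) * op (r j)⁻¹) = 0 := by
    intro i _ hij
    have hns : ¬ IsSc (r i * (r j)⁻¹) := by
      rintro ⟨a, ha⟩
      apply hij
      symm
      apply hd j i
      refine ⟨a, ?_⟩
      have e : (r j)⁻¹ * r i = (r j)⁻¹ * (r i * (r j)⁻¹) * r j := by group
      rw [e, op_mul, op_mul, ha, mul_smul_comm, mul_one, smul_mul_assoc, op_inv_mul]
    have ht := trace_zero N hH (r i * (r j)⁻¹) (N.mul_mem (hr i) (N.inv_mem (hr j))) hns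
    rw [op_mul] at ht
    rw [ht, mul_zero]
  rw [Finset.sum_eq_single_of_mem j (Finset.mem_univ j) h3] at h2
  rw [op_mul_inv, LinearMap.trace_one] at h2
  exact (mul_eq_zero.mp h2).resolve_right hfr

end Cfsg.Agent.Helper10.GrossP
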