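import Mathlib
import Cfsg.Agent.Lib.S3801P.GPDefs


/-!
# Gross (T), block P, piece GP-SPANTOP (S3801; designer helper10)

Burnside: an irreducible finite group `N` with `|N| ≠ 0` in `K` spans `End V`.  Immediate from
`Cfsg.Agent.Helper4.ThB.fourier N hirr hN T : T = (finrank/card) • four N T` and
`four N T = ∑ g ∈ fin N, trace (T * op g⁻¹) • op g` (`mem_fin`).
-/

set_option autoImplicit false

namespace Cfsg.Agent.Helper10.GrossP

open Cfsg.Agent.Helper4.ThB

variable {K : Type*} [Field K] {V : Type*} [AddCommGroup V] [Module K V]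

theorem span_top [IsAlgClosed K] [FiniteDimensional K V] [Nontrivial V]
    (N : Subgroup (V ≃ₗ[K] V)) [Finite N] (hirr : Irr (N : Set (V ≃ₗ[K] V)))
    (hN : (Nat.card N : K) ≠ 0) (T : Module.End K V) : T ∈ spanOp N := by
  rw [fourier N hirr hN T]
  apply Submodule.smul_mem
  unfold four
  apply Submodule.sum_mem
  intro g hg
  apply Submodule.smul_mem
  exact op_mem_spanOp ((mem_fin N).mp hg)

end Cfsg.Agent.Helper10.GrossP
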