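import Mathlib
import Cfsg.Agent.Lib.S3801P.GPDefs


/-!
# Gross (T), block P, piece GP-TRANSV (S3801; designer helper10)

Pure group theory: a left transversal of `Z` in `M` as a `Finset` (e.g. the image of `Quotient.out` on
`↥M ⧸ Z.subgroupOf M`, mapped to `G`; the count is Lagrange `Subgroup.card_eq_card_quotient_mul_card_subgroup`).
-/

set_option autoImplicit false

namespace Cfsg.Agent.Helper10.GrossP

open Cfsg.Agent.Helper4.ThB

variable {K : Type*} [Field K] {V : Type*} [AddCommGroup V] [Module K V]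

theorem exists_transversal {G : Type*} [Group G] (M Z : Subgroup G) [Finite M] (hZM : Z ≤ M) :
    ∃ R : Finset G, (∀ r ∈ R, r ∈ M) ∧ (∀ x ∈ M, ∃ r ∈ R, r⁻¹ * x ∈ Z) ∧
      (∀ r ∈ R, ∀ r' ∈ R, r⁻¹ * r' ∈ Z → r = r') ∧ Nat.card M = R.card * Nat.card Z := by
  classical
  have : Fintype (↥M ⧸ Z.subgroupOf M) := Fintype.ofFinite _
  set f : (↥M ⧸ Z.subgroupOf M) → G := fun q => ((Quotient.out q : ↥M) : G) with hf
  have hout : ∀ q : ↥M ⧸ Z.subgroupOf M, (QuotientGroup.mk (Quotient.out q) : ↥M ⧸ Z.subgroupOf M) = q :=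
    fun q => Quotient.out_eq' q
  have hfinj : Function.Injective f := by
    intro q q' h
    have h1 : (Quotient.out q : ↥M) = Quotient.out q' := Subtype.ext h
    rw [← hout q, ← hout q', h1]
  refine ⟨Finset.univ.image f, ?_, ?_, ?_, ?_⟩
  · intro r hr
    obtain ⟨q, -, rfl⟩ := Finset.mem_image.mp hr
    exact (Quotient.out q : ↥M).2
  · intro x hx
    refine ⟨f (QuotientGroup.mk ⟨x, hx⟩), Finset.mem_image_of_mem f (Finset.mem_univ _), ?_⟩
    have h1 := hout (QuotientGroup.mk (⟨x, hx⟩ : ↥M))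
    rw [QuotientGroup.eq, Subgroup.mem_subgroupOf] at h1
    exact h1
  · intro r hr r' hr' hrr'
    obtain ⟨q, -, rfl⟩ := Finset.mem_image.mp hr
    obtain ⟨q', -, rfl⟩ := Finset.mem_image.mp hr'
    have h1 : (QuotientGroup.mk (Quotient.out q) : ↥M ⧸ Z.subgroupOf M) =
        QuotientGroup.mk (Quotient.out q') := by
      rw [QuotientGroup.eq, Subgroup.mem_subgroupOf]
      exact hrr'
    rw [hout, hout] at h1
    rw [h1]
  · rw [Finset.card_image_of_injective _ hfinj, Finset.card_univ, ← Nat.card_eq_fintype_card,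
      Subgroup.card_eq_card_quotient_mul_card_subgroup (Z.subgroupOf M),
      Nat.card_congr (Subgroup.subgroupOfEquivOfLe hZM).toEquiv]

end Cfsg.Agent.Helper10.GrossP
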