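import Mathlib
import Cfsg.Agent.Lib.S3801P.GPDefs
import Cfsg.Agent.Lib.S3801P.GPLinInd
import Cfsg.Agent.Lib.S3801P.GPSpanTop
import Cfsg.Agent.Lib.S3801P.GPTransv

/-!
# Gross (T), block P, piece GP-CARDABS (S3801; designer helper10)

An irreducible Heisenberg-type group `N` with scalar subgroup `Z` has `|N| = (dim V)^2 * |Z|`.
Proof: `R` := `exists_transversal N Z`; the family `fun r : ↥R => op r` is linearly independent (`linIndep`
with `ι = ↥R`; distinctness from the transversal property and `hZ`) and spans `End V` (`span_top`: every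
`op x`, `x ∈ N`, is `c • op r` for the representative `r` of `x`: `r⁻¹ * x ∈ Z` is a scalar `c`, so
`op x = op r * op (r⁻¹ * x) = c • op r`).  So `R.card = finrank K (End V) = (finrank K V)^2`
(`Module.finrank_linearMap` / `Basis.mk` + `Module.finrank_eq_card_basis`).
-/

set_option autoImplicit false

namespace Cfsg.Agent.Helper10.GrossP

open Cfsg.Agent.Helper4.ThB

variable {K : Type*} [Field K] {V : Type*} [AddCommGroup V] [Module K V]

theorem card_abs [IsAlgClosed K] [FiniteDimensional K V] [Nontrivial V]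
    (N : Subgroup (V ≃ₗ[K] V)) [Finite N] (hirr : Irr (N : Set (V ≃ₗ[K] V)))
    (hN : (Nat.card N : K) ≠ 0) (hH : Heis N) (Z : Subgroup (V ≃ₗ[K] V)) (hZ : IsScalSub N Z) :
    Nat.card N = (Module.finrank K V) ^ 2 * Nat.card Z := by
  classical
  have hZN : Z ≤ N := fun x hx => ((hZ x).mp hx).1
  obtain ⟨R, hRN, hRcov, hRinj, hcard⟩ := exists_transversal N Z hZN
  set v : ↥R → Module.End K V := fun i => op i.1 with hv
  -- linear independence
  have hli : LinearIndependent K v := by
    rw [Fintype.linearIndependent_iff]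
    intro c h0
    refine linIndep N hirr hN hH (fun i : ↥R => i.1) (fun i => hRN i.1 i.2) ?_ c h0
    intro i j hsc
    apply Subtype.ext
    apply hRinj i.1 i.2 j.1 j.2
    exact (hZ _).mpr ⟨N.mul_mem (N.inv_mem (hRN i.1 i.2)) (hRN j.1 j.2), hsc⟩
  -- spanning
  have hsp : ⊤ ≤ Submodule.span K (Set.range v) := by
    intro T _
    have hT : T ∈ spanOp N := span_top N hirr hN T
    refine (Submodule.span_le.mpr ?_) hT
    rintro _ ⟨x, hx, rfl⟩
    obtain ⟨r, hr, hrx⟩ := hRcov x hx
    obtain ⟨-, c, hc⟩ := (hZ _).mp hrx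
    have e : op x = c • op r := by
      have e1 : x = r * (r⁻¹ * x) := by group
      rw [e1, op_mul, hc, mul_smul_comm, mul_one]
    rw [SetLike.mem_coe, e]
    exact Submodule.smul_mem _ _ (Submodule.subset_span ⟨⟨r, hr⟩, rfl⟩)
  have hb : Module.finrank K (Module.End K V) = Fintype.card ↥R :=
    Module.finrank_eq_card_basis (Module.Basis.mk hli hsp)
  have hfr : Module.finrank K (Module.End K V) = Module.finrank K V * Module.finrank K V :=
    Module.finrank_linearMap K K V V
  rw [hcard, ← Fintype.card_coe R, ← hb, hfr, pow_two]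

end Cfsg.Agent.Helper10.GrossP
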