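import Mathlib
import Cfsg.Agent.Lib.S3801P.GPDefs


/-!
# Gross (T), block P, piece GP-RES (S3801; designer helper10)

Restriction of a Heisenberg-type group `M` to a nonzero invariant subspace `U` is faithful, preserves
(non-)scalarity and the Heisenberg property.  KEY: if `x ∈ M` acts on `U` as a scalar `c`, then `x` is scalar
on `V`: otherwise `hH` gives `y ∈ M`, `c' ≠ 1` with `y x y⁻¹ = c' x`; for `0 ≠ u ∈ U`:
`y x y⁻¹ u = c u` (as `y⁻¹ u ∈ U`) and `c' x u = c' c u`, so `c = c' c`, and `c ≠ 0` (`x` invertible): contradiction.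
Injectivity: `res x = 1` gives `x` scalar `= c • 1` with `c u = u`, so `c = 1`, `x = 1` (`op_injective`).
(`y⁻¹ ∈ M` preserves `U` since `M` is a subgroup.)  `resHom` is in `Cfsg/Agent/Lib/Helper4/ThBRes.lean`.
-/

set_option autoImplicit false

namespace Cfsg.Agent.Helper10.GrossP

open Cfsg.Agent.Helper4.ThB

variable {K : Type*} [Field K] {V : Type*} [AddCommGroup V] [Module K V]

theorem res_pack [FiniteDimensional K V] (M : Subgroup (V ≃ₗ[K] V)) (hH : Heis M)
    (U : Submodule K V) (hU0 : U ≠ ⊥) (hUinv : Inv (M : Set (V ≃ₗ[K] V)) U) :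
    Function.Injective (resHom M U hUinv) ∧
      (∀ x : M, IsSc (resHom M U hUinv x) ↔ IsSc (x : V ≃ₗ[K] V)) ∧
      Heis (resHom M U hUinv).range := by
  obtain ⟨u0, hu0U, hu0⟩ := Submodule.exists_mem_ne_zero_of_ne_bot hU0
  -- scalar on `V` gives scalar on `U`
  have hdown : ∀ x : M, IsSc (x : V ≃ₗ[K] V) → IsSc (resHom M U hUinv x) := by
    rintro x ⟨c, hc⟩
    refine ⟨c, ?_⟩
    apply LinearMap.ext
    intro u
    apply Subtype.ext
    have h1 : ((op (resHom M U hUinv x)) u : V) = op x.1 (u : V) := rfl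
    rw [h1, hc]
    simp
  -- scalar on `U` gives scalar on `V`
  have hup : ∀ x : M, IsSc (resHom M U hUinv x) → IsSc (x : V ≃ₗ[K] V) := by
    rintro x ⟨c, hc⟩
    have hxu : ∀ u : V, u ∈ U → x.1 u = c • u := by
      intro u hu
      have h1 : ((op (resHom M U hUinv x)) ⟨u, hu⟩ : V) = x.1 u := rfl
      rw [hc] at h1
      simpa using h1.symm
    rcases hH x.1 x.2 with h | ⟨y, hy, c', hc', hyx⟩
    · exact h
    · exfalso
      have hyinv : y⁻¹ ∈ M := M.inv_mem hy
      have hyu : y⁻¹ u0 ∈ U := hUinv y⁻¹ hyinv u0 hu0U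
      have hyy : y (y⁻¹ u0) = u0 := by
        have : y (y⁻¹ u0) = (y * y⁻¹) u0 := rfl
        rw [this, mul_inv_cancel]; rfl
      have e1 : op (y * x.1 * y⁻¹) u0 = c • u0 := by
        show y (x.1 (y⁻¹ u0)) = c • u0
        rw [hxu _ hyu, map_smul, hyy]
      have e2 : (c' • op x.1) u0 = c' • (c • u0) := by
        show c' • x.1 u0 = _
        rw [hxu _ hu0U]
      rw [hyx, e2] at e1
      have hc0 : c ≠ 0 := by
        intro h0
        have h3 : x.1 u0 = 0 := by rw [hxu _ hu0U, h0, zero_smul]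
        exact hu0 ((LinearEquiv.map_eq_zero_iff x.1).mp h3)
      have h4 : (c' * c - c) • u0 = 0 := by rw [sub_smul, mul_smul, e1, sub_self]
      rcases smul_eq_zero.mp h4 with h | h
      · apply hc'
        have h5 : (c' - 1) * c = 0 := by rw [sub_mul, one_mul]; exact h
        rcases mul_eq_zero.mp h5 with h' | h'
        · exact sub_eq_zero.mp h'
        · exact absurd h' hc0
      · exact hu0 h
  refine ⟨?_, fun x => ⟨hup x, hdown x⟩, ?_⟩
  · rw [injective_iff_map_eq_one]
    intro x hx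
    have hsc : IsSc (resHom M U hUinv x) := ⟨1, by rw [hx, one_smul]; rfl⟩
    obtain ⟨c, hc⟩ := hup x hsc
    have h1 : x.1 u0 = u0 := by
      have h0 : ((resHom M U hUinv x) ⟨u0, hu0U⟩ : V) = x.1 u0 := rfl
      rw [hx] at h0
      exact h0.symm
    have h2 : x.1 u0 = c • u0 := by
      have h0 := congrArg (fun f : Module.End K V => f u0) hc
      simpa using h0
    have hc1 : c = 1 := by
      have h3 : (c - 1) • u0 = 0 := by rw [sub_smul, one_smul, ← h2, h1, sub_self]
      rcases smul_eq_zero.mp h3 with h | h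
      · exact sub_eq_zero.mp h
      · exact absurd h hu0
    apply Subtype.ext
    apply op_injective
    rw [hc, hc1, one_smul]; rfl
  · rintro z ⟨x, rfl⟩
    rcases hH x.1 x.2 with h | ⟨y, hy, c, hc, hyx⟩
    · exact Or.inl (hdown x h)
    · right
      refine ⟨resHom M U hUinv ⟨y, hy⟩, ⟨⟨y, hy⟩, rfl⟩, c, hc, ?_⟩
      have e : resHom M U hUinv ⟨y, hy⟩ * resHom M U hUinv x * (resHom M U hUinv ⟨y, hy⟩)⁻¹ =
          resHom M U hUinv (⟨y, hy⟩ * x * ⟨y, hy⟩⁻¹) := by
        rw [map_mul, map_mul, map_inv]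
      rw [e]
      apply LinearMap.ext
      intro u
      apply Subtype.ext
      have h1 : ((op (resHom M U hUinv (⟨y, hy⟩ * x * ⟨y, hy⟩⁻¹))) u : V) =
          op (y * x.1 * y⁻¹) (u : V) := rfl
      rw [h1, hyx]
      rfl

end Cfsg.Agent.Helper10.GrossP
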