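import Mathlib
import Cfsg.Agent.Lib.S3801P.GPDefs
import Cfsg.Agent.Lib.S3801P.GPCardAbs
import Cfsg.Agent.Lib.S3801P.GPRes

/-!
# Gross (T), block P, piece GP-CARDM (S3801; designer helper10)

`|M| = (dim U)^2 * |Z|` for a simple `M`-submodule `U` of `V`.  Proof: `φ := resHom M U hU.2.1` is injective
(`res_pack`), `N := φ.range` is irreducible on `U` (`irr_res`), Heisenberg (`res_pack`), `|N| = |M|` odd so
`≠ 0` in `K` (char 2); its scalar subgroup is `Z' := (Z.subgroupOf M).map φ` (`res_pack` iff), `|Z'| = |Z|`;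
`card_abs` on `↥U` (`Nontrivial ↥U` from `hU.1`).
-/

set_option autoImplicit false

namespace Cfsg.Agent.Helper10.GrossP

open Cfsg.Agent.Helper4.ThB

variable {K : Type*} [Field K] {V : Type*} [AddCommGroup V] [Module K V]

theorem card_M [IsAlgClosed K] [CharP K 2] [FiniteDimensional K V] (M : Subgroup (V ≃ₗ[K] V))
    [Finite M] (hodd : Odd (Nat.card M)) (hH : Heis M) (U : Submodule K V)
    (hU : Simp (M : Set (V ≃ₗ[K] V)) U) (Z : Subgroup (V ≃ₗ[K] V)) (hZ : IsScalSub M Z) :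
    Nat.card M = (Module.finrank K U) ^ 2 * Nat.card Z := by
  obtain ⟨hinj, hsc, hHeis⟩ := res_pack M hH U hU.1 hU.2.1
  have hirr := irr_res M U hU
  set φ := resHom M U hU.2.1 with hφ
  haveI : Nontrivial ↥U := Submodule.nontrivial_iff_ne_bot.mpr hU.1
  -- `|N| = |M|`
  have eN : ↥M ≃* ↥φ.range := MonoidHom.ofInjective hinj
  haveI : Finite ↥φ.range := Finite.of_equiv _ eN.toEquiv
  have hcardN : Nat.card ↥φ.range = Nat.card ↥M := (Nat.card_congr eN.toEquiv).symm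
  have hN0 : ((Nat.card ↥φ.range : ℕ) : K) ≠ 0 := by
    rw [hcardN]
    intro h0
    have h2 : 2 ∣ Nat.card ↥M := (CharP.cast_eq_zero_iff K 2 _).mp h0
    exact (Nat.not_even_iff_odd.mpr hodd) (even_iff_two_dvd.mpr h2)
  -- the scalar subgroup of `N`
  have hZ' : IsScalSub φ.range ((Z.subgroupOf M).map φ) := by
    intro y
    constructor
    · rintro ⟨x, hx, rfl⟩
      have hxZ : (x : V ≃ₗ[K] V) ∈ Z := Subgroup.mem_subgroupOf.mp hx
      exact ⟨⟨x, rfl⟩, (hsc x).mpr ((hZ _).mp hxZ).2⟩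
    · rintro ⟨⟨x, rfl⟩, hy⟩
      have hxZ : (x : V ≃ₗ[K] V) ∈ Z := (hZ _).mpr ⟨x.2, (hsc x).mp hy⟩
      exact ⟨x, Subgroup.mem_subgroupOf.mpr hxZ, rfl⟩
  have hZM : Z ≤ M := fun x hx => ((hZ x).mp hx).1
  have hcardZ : Nat.card ↥((Z.subgroupOf M).map φ) = Nat.card ↥Z := by
    rw [← Nat.card_congr ((Z.subgroupOf M).equivMapOfInjective φ hinj).toEquiv]
    exact Nat.card_congr (Subgroup.subgroupOfEquivOfLe hZM).toEquiv
  have := card_abs (V := ↥U) φ.range hirr hN0 hHeis _ hZ'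
  rw [hcardN, hcardZ] at this
  exact this

end Cfsg.Agent.Helper10.GrossP
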