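import Mathlib
import Cfsg.Agent.Lib.S3801P.GPDefs
import Cfsg.Agent.Lib.S3801P.GPRes
import Cfsg.Agent.Lib.Helper4.ThBMin
import Cfsg.Agent.Lib.Helper4.ThBPoly

/-!
# Gross (T), block P, piece GP-CRITAPP (S3801; designer helper10)

Application of `crit_main` (Helper4/ThBCrit.lean, `p = 2`, `n = m`) on an `a`-stable simple `M`-submodule `U₁`.
`N₁ := (resHom M U₁ _).range` (irreducible by `irr_res`, odd order); `a₁ ∈ GL(U₁)` the restriction of `a`
(here: `resHom L U₁ _ ⟨a, _⟩` for `L` the subgroup generated by `M` and `a`).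
* `a₁` normalises `N₁`: `a₁ * res x * a₁⁻¹ = res (a * x * a⁻¹)`.
* `a₁ ^ 2 ^ m = 1`: `(op a - 1)^(2^m) = 0` from `ht`, and `(op a - 1)^(2^m) = op a ^ 2^m - 1` in char 2.
* `hfix` of `crit_main`: `g = res x`, `a₁^i g a₁^(-i) = g` gives `a^i x a^(-i) = x` (`res_pack`), hence `a^(2^(m-1))`
  commutes with `x` (`commute_top_power`), so `x` is scalar by `hfix`, so `res x` is scalar.
* `s` the least exponent with `(op a₁ - 1)^s = 0`; `s ≤ 2^m - 1`, so `crit_main` gives `finrank U₁ = s` and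
  (`s = 1` or `s + 1 = 2^m`);  `s = 1` contradicts `hnt`.
-/

set_option autoImplicit false

namespace Cfsg.Agent.Helper10.GrossP

open Cfsg.Agent.Helper4.ThB

variable {K : Type*} [Field K] {V : Type*} [AddCommGroup V] [Module K V]

theorem crit_app [IsAlgClosed K] [CharP K 2] [FiniteDimensional K V]
    (M : Subgroup (V ≃ₗ[K] V)) [Finite M] (hodd : Odd (Nat.card M)) (hH : Heis M)
    (a : V ≃ₗ[K] V) (hn1 : ∀ g ∈ M, a * g * a⁻¹ ∈ M) (m : ℕ) (hm : 1 ≤ m)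
    (ht : (op a - 1) ^ (2 ^ m - 1) = 0)
    (hfix : ∀ x ∈ M, a ^ 2 ^ (m - 1) * x = x * a ^ 2 ^ (m - 1) → IsSc x)
    (hnt : ∃ x ∈ M, ¬ IsSc x) (U₁ : Submodule K V) (hU₁ : Simp (M : Set (V ≃ₗ[K] V)) U₁)
    (hst : img a U₁ = U₁) :
    Module.finrank K U₁ + 1 = 2 ^ m ∧ ∃ u ∈ U₁, ((op a - 1 : Module.End K V) ^ (2 ^ m - 2)) u ≠ 0 := by
  classical
  haveI : Fact (Nat.Prime 2) := ⟨Nat.prime_two⟩
  have hU0 : U₁ ≠ ⊥ := hU₁.1
  have hinv : Inv (M : Set (V ≃ₗ[K] V)) U₁ := hU₁.2.1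
  haveI : Nontrivial ↥U₁ := Submodule.nontrivial_iff_ne_bot.mpr hU0
  obtain ⟨hinj, hsc, -⟩ := res_pack M hH U₁ hU0 hinv
  have h2m : 2 ≤ 2 ^ m := by
    calc 2 = 2 ^ 1 := by norm_num
      _ ≤ 2 ^ m := Nat.pow_le_pow_right (by norm_num) hm
  -- `a` preserves `U₁`
  have haU : ∀ u ∈ U₁, a u ∈ U₁ := by
    intro u hu
    have h1 := apply_mem_img (g := a) hu
    rw [hst] at h1
    exact h1
  -- the group `L` generated by `M` and `a`
  have hLgen : Inv ((M : Set (V ≃ₗ[K] V)) ∪ {a}) U₁ := by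
    rintro g (hg | hg) u hu
    · exact hinv g hg u hu
    · rw [Set.mem_singleton_iff] at hg
      rw [hg]
      exact haU u hu
  obtain ⟨L, hML, haL, hL⟩ : ∃ L : Subgroup (V ≃ₗ[K] V), (∀ x ∈ M, x ∈ L) ∧ a ∈ L ∧
      Inv (L : Set (V ≃ₗ[K] V)) U₁ :=
    ⟨Subgroup.closure ((M : Set (V ≃ₗ[K] V)) ∪ {a}),
      fun x hx => Subgroup.subset_closure (Or.inl hx),
      Subgroup.subset_closure (Or.inr rfl), inv_closure hLgen⟩
  have hLM : ∀ x (hx : x ∈ M), resHom L U₁ hL ⟨x, hML x hx⟩ = resHom M U₁ hinv ⟨x, hx⟩ := by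
    intro x hx
    apply LinearEquiv.ext
    intro u
    apply Subtype.ext
    rfl
  obtain ⟨a₁, ha₁⟩ : ∃ a₁ : ↥U₁ ≃ₗ[K] ↥U₁, a₁ = resHom L U₁ hL ⟨a, haL⟩ := ⟨_, rfl⟩
  -- conjugation by powers of `a₁`
  have hC1 : ∀ (i : ℕ) (x : V ≃ₗ[K] V) (hx : x ∈ M),
      a₁ ^ i * resHom M U₁ hinv ⟨x, hx⟩ * (a₁ ^ i)⁻¹ =
        resHom M U₁ hinv ⟨a ^ i * x * (a ^ i)⁻¹, normalizes_pow M a hn1 i x hx⟩ := by
    intro i x hx
    rw [← hLM x hx, ← hLM _ (normalizes_pow M a hn1 i x hx), ha₁, ← map_pow, ← map_mul,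
      ← map_inv, ← map_mul]
    exact congrArg (resHom L U₁ hL) (Subtype.ext (by simp))
  -- `a ^ 2 ^ m = 1`
  have haP : a ^ 2 ^ m = 1 := by
    apply op_injective
    rw [op_pow, op_one]
    have h1 : (op a - 1) ^ (2 ^ m) = 0 := by
      have h2 : 2 ^ m = (2 ^ m - 1) + 1 := by omega
      rw [h2, pow_succ, ht, zero_mul]
    rw [sub_one_pow_char_pow K (op a) m (p := 2)] at h1
    exact sub_eq_zero.mp h1
  have ha₁P : a₁ ^ 2 ^ m = 1 := by
    rw [ha₁, ← map_pow]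
    have h1 : (⟨a, haL⟩ : ↥L) ^ 2 ^ m = 1 := by
      apply Subtype.ext
      rw [Subgroup.coe_pow, Subgroup.coe_one]
      exact haP
    rw [h1, map_one]
  -- restriction of `op a - 1`
  have hAB : ∀ u : U₁, ((op a₁ u : U₁) : V) = op a (u : V) := by
    intro u
    rw [ha₁]
    rfl
  have hAB1 : ∀ u : U₁, (((op a₁ - 1) u : U₁) : V) = (op a - 1) (u : V) :=
    restrict_sub_one (op a) (op a₁) hAB
  have hABr : ∀ (r : ℕ) (u : U₁),
      ((((op a₁ - 1) ^ r) u : U₁) : V) = ((op a - 1) ^ r) (u : V) :=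
    restrict_pow_apply (op a - 1) (op a₁ - 1) hAB1
  have h0 : (op a₁ - 1) ^ (2 ^ m - 1) = 0 := by
    apply LinearMap.ext
    intro u
    apply Subtype.ext
    rw [hABr, ht]
    rfl
  haveI : Finite (resHom M U₁ hinv).range :=
    Finite.of_surjective (resHom M U₁ hinv).rangeRestrict
      (MonoidHom.rangeRestrict_surjective _)
  have hcop : (Nat.card (resHom M U₁ hinv).range).Coprime 2 := by
    have h1 : Nat.card (resHom M U₁ hinv).range ∣ Nat.card M := Subgroup.card_range_dvd _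
    exact Nat.coprime_two_right.mpr (Odd.of_dvd_nat hodd h1)
  have hnorm : ∀ g ∈ (resHom M U₁ hinv).range, a₁ * g * a₁⁻¹ ∈ (resHom M U₁ hinv).range := by
    rintro g ⟨⟨x, hx⟩, rfl⟩
    have h1 := hC1 1 x hx
    rw [pow_one] at h1
    rw [h1]
    exact ⟨_, rfl⟩
  have hfix' : ∀ g ∈ (resHom M U₁ hinv).range, ∀ i, 0 < i → i < 2 ^ m →
      a₁ ^ i * g * (a₁ ^ i)⁻¹ = g → ∃ c : K, op g = c • (1 : Module.End K U₁) := by
    rintro g ⟨⟨x, hx⟩, rfl⟩ i hi0 hiP hfixed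
    rw [hC1 i x hx] at hfixed
    have h1 := hinj hfixed
    have h2 : a ^ i * x * (a ^ i)⁻¹ = x := congrArg Subtype.val h1
    have h3 : Commute (a ^ i) x := mul_inv_eq_iff_eq_mul.mp h2
    have h4 := commute_top_power a x m haP i hi0 hiP h3
    have h5 : IsSc x := hfix x hx h4.eq
    exact (hsc ⟨x, hx⟩).mpr h5
  have hex : ∃ s, (op a₁ - 1) ^ s = 0 := ⟨_, h0⟩
  have hs := Nat.find_spec hex
  have hmin : ∀ k < Nat.find hex, (op a₁ - 1) ^ k ≠ 0 := fun k hk => Nat.find_min hex hk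
  have hsle : Nat.find hex ≤ 2 ^ m - 1 := Nat.find_min' hex h0
  have hcrit := crit_main (p := 2) (resHom M U₁ hinv).range (irr_res M U₁ hU₁) hcop a₁ hnorm m
    ha₁P hfix' (Nat.find hex) hs hmin
  rcases hcrit with h | ⟨hfr, h1 | h1⟩
  · omega
  · exfalso
    have h2 : op a₁ = 1 := by
      have h3 := hs
      rw [h1, pow_one] at h3
      exact sub_eq_zero.mp h3
    have h3 : a₁ = 1 := op_injective (by rw [h2, op_one])
    obtain ⟨x, hx, hxs⟩ := hnt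
    apply hxs
    apply hfix x hx
    have h4 := hC1 (2 ^ (m - 1)) x hx
    rw [h3, one_pow, one_mul, inv_one, mul_one] at h4
    have h5 := hinj h4
    have h6 : x = a ^ 2 ^ (m - 1) * x * (a ^ 2 ^ (m - 1))⁻¹ := congrArg Subtype.val h5
    exact mul_inv_eq_iff_eq_mul.mp h6.symm
  · refine ⟨by rw [hfr]; exact h1, ?_⟩
    have hk : 2 ^ m - 2 < Nat.find hex := by omega
    have h2 := hmin _ hk
    have h3 : ∃ u : U₁, ((op a₁ - 1 : Module.End K U₁) ^ (2 ^ m - 2)) u ≠ 0 := by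
      by_contra hcon
      push Not at hcon
      exact h2 (LinearMap.ext hcon)
    obtain ⟨u, hu⟩ := h3
    refine ⟨u, u.2, ?_⟩
    intro h4
    apply hu
    apply Subtype.ext
    rw [hABr, h4]
    rfl

end Cfsg.Agent.Helper10.GrossP
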