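import Mathlib
import Cfsg.Agent.Lib.S3801P.GPDefs


/-!
# Gross (T), block P, piece GP-SCAL (S3801; designer helper10)

Scalar elements: they form a subgroup, are central in `GL(V)`; `Heis` from the class-2 hypotheses
(`x` non-scalar: some `y ∈ M` does not commute with `x`, and `y x y⁻¹ x⁻¹ = c • 1` with `c ≠ 1`).
-/

set_option autoImplicit false

namespace Cfsg.Agent.Helper10.GrossP

open Cfsg.Agent.Helper4.ThB

variable {K : Type*} [Field K] {V : Type*} [AddCommGroup V] [Module K V]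

/-- the subgroup of scalar elements -/
theorem exists_scalSub (M : Subgroup (V ≃ₗ[K] V)) : ∃ Z : Subgroup (V ≃ₗ[K] V), IsScalSub M Z := by
  have h1 : (1 : V ≃ₗ[K] V) ∈ {x : V ≃ₗ[K] V | x ∈ M ∧ IsSc x} :=
    ⟨M.one_mem, 1, by rw [op_one, one_smul]⟩
  have hm : ∀ {a b : V ≃ₗ[K] V}, a ∈ {x : V ≃ₗ[K] V | x ∈ M ∧ IsSc x} →
      b ∈ {x : V ≃ₗ[K] V | x ∈ M ∧ IsSc x} → a * b ∈ {x : V ≃ₗ[K] V | x ∈ M ∧ IsSc x} := by
    rintro a b ⟨ha, c, hc⟩ ⟨hb, d, hd⟩
    refine ⟨M.mul_mem ha hb, c * d, ?_⟩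
    rw [op_mul, hc, hd, smul_mul_smul_comm, mul_one]
  have hi : ∀ {a : V ≃ₗ[K] V}, a ∈ {x : V ≃ₗ[K] V | x ∈ M ∧ IsSc x} →
      a⁻¹ ∈ {x : V ≃ₗ[K] V | x ∈ M ∧ IsSc x} := by
    rintro a ⟨ha, c, hc⟩
    refine ⟨M.inv_mem ha, ?_⟩
    by_cases h0 : c = 0
    · refine ⟨0, ?_⟩
      have h1 : (1 : Module.End K V) = 0 := by
        rw [← op_inv_mul a, hc, h0, zero_smul, mul_zero]
      rw [zero_smul, ← mul_one (op a⁻¹), h1, mul_zero]
    · refine ⟨c⁻¹, ?_⟩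
      have h1 : op a⁻¹ * op a = 1 := op_inv_mul a
      rw [hc, mul_smul_comm, mul_one] at h1
      rw [← h1, smul_smul, inv_mul_cancel₀ h0, one_smul]
  exact ⟨{ carrier := {x | x ∈ M ∧ IsSc x}, one_mem' := h1, mul_mem' := hm, inv_mem' := hi },
    fun x => Iff.rfl⟩

/-- scalar elements commute with everything -/
theorem IsSc.comm {x : V ≃ₗ[K] V} (hx : IsSc x) (y : V ≃ₗ[K] V) : x * y = y * x := by
  obtain ⟨c, hc⟩ := hx
  apply op_injective
  rw [op_mul, op_mul, hc, smul_mul_assoc, one_mul, mul_smul_comm, mul_one]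

/-- Heisenberg type from "commutators are scalar" and "central elements are scalar" -/
theorem heis_of (M : Subgroup (V ≃ₗ[K] V))
    (hcl : ∀ x ∈ M, ∀ y ∈ M, IsSc (x * y * x⁻¹ * y⁻¹))
    (hnd : ∀ x ∈ M, (∀ y ∈ M, x * y = y * x) → IsSc x) : Heis M := by
  intro x hx
  by_cases hs : IsSc x
  · exact Or.inl hs
  · right
    have h1 : ¬ ∀ y ∈ M, x * y = y * x := fun h => hs (hnd x hx h)
    simp only [not_forall] at h1
    obtain ⟨y, hy, hxy⟩ := h1
    obtain ⟨c, hc⟩ := hcl y hy x hx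
    refine ⟨y, hy, c, ?_, ?_⟩
    · intro h1c
      rw [h1c, one_smul, ← op_one] at hc
      have h2 := op_injective hc
      apply hxy
      have h3 : y * x = (y * x * y⁻¹ * x⁻¹) * (x * y) := by group
      rw [h3, h2, one_mul]
    · have h2 : y * x * y⁻¹ = (y * x * y⁻¹ * x⁻¹) * x := by group
      rw [h2, op_mul, hc, smul_mul_assoc, one_mul]

end Cfsg.Agent.Helper10.GrossP
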