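import Mathlib
import Cfsg.Agent.Lib.S3801P.GPDefs
import Cfsg.Agent.Lib.S3801P.GPLinInd
import Cfsg.Agent.Lib.S3801P.GPTransv
import Cfsg.Agent.Lib.S3801P.GPScal
import Cfsg.Agent.Lib.S3801P.GPRes

/-!
# Gross (T), block P, piece GP-INJ (S3801; designer helper10)

An element of `spanOp M` vanishing on a simple `M`-submodule `U` is `0`.
Proof: `Z` := scalar subgroup (`exists_scalSub`), `R` := `exists_transversal M Z`.  Every `op x` (`x ∈ M`) is
`c • op r` with `r ∈ R` (`r⁻¹ * x ∈ Z` scalar), so `S ∈ span {op r | r ∈ R}`, i.e. `S = ∑ r : ↥R, c r • op r`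
(`Submodule.mem_span_range_iff_exists_fun` or `Submodule.mem_span_finset`).  Restrict to `U`:
`∑ r, c r • op (φ r) = 0` in `End U` with `φ = resHom M U hU.2.1`.  Apply `linIndep` to `N = φ.range` on `↥U`
(irreducible by `irr_res`, Heisenberg and faithful by `res_pack`, `|N| = |M|` odd, char 2) with the family
`fun r : ↥R => φ ⟨r, _⟩`: if `(φ r)⁻¹ * φ r' = φ (r⁻¹ r')` is scalar then `r⁻¹ r'` is scalar (`res_pack`), so in
`Z`, so `r = r'`.  Hence all `c r = 0` and `S = 0`.
-/

set_option autoImplicit false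

namespace Cfsg.Agent.Helper10.GrossP

open Cfsg.Agent.Helper4.ThB

variable {K : Type*} [Field K] {V : Type*} [AddCommGroup V] [Module K V]

theorem restrict_inj [IsAlgClosed K] [CharP K 2] [FiniteDimensional K V]
    (M : Subgroup (V ≃ₗ[K] V)) [Finite M] (hodd : Odd (Nat.card M)) (hH : Heis M)
    (U : Submodule K V) (hU : Simp (M : Set (V ≃ₗ[K] V)) U) (S : Module.End K V)
    (hS : S ∈ spanOp M) (h0 : ∀ u ∈ U, S u = 0) : S = 0 := by
  classical
  obtain ⟨Z, hZ⟩ := exists_scalSub M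
  have hZM : Z ≤ M := fun x hx => ((hZ x).1 hx).1
  obtain ⟨R, hR1, hR2, hR3, _⟩ := exists_transversal M Z hZM
  -- `S` is a combination of the `op r`, `r ∈ R`
  have hspan : spanOp M ≤ Submodule.span K (Set.range (fun r : ↥R => op (r : V ≃ₗ[K] V))) := by
    apply Submodule.span_le.mpr
    rintro T ⟨x, hx, rfl⟩
    obtain ⟨r, hr, hrx⟩ := hR2 x hx
    obtain ⟨c, hc⟩ := ((hZ _).1 hrx).2
    have h1 : op x = c • op r := by
      calc op x = op (r * (r⁻¹ * x)) := by rw [mul_inv_cancel_left]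
        _ = op r * op (r⁻¹ * x) := op_mul _ _
        _ = op r * (c • (1 : Module.End K V)) := by rw [hc]
        _ = c • op r := by rw [mul_smul_comm, mul_one]
    rw [h1]
    exact Submodule.smul_mem _ _ (Submodule.subset_span ⟨⟨r, hr⟩, rfl⟩)
  obtain ⟨c, hc⟩ := (Submodule.mem_span_range_iff_exists_fun K).mp (hspan hS)
  -- restriction to `U`
  have hU0 : U ≠ ⊥ := hU.1
  have hUinv : Inv (M : Set (V ≃ₗ[K] V)) U := hU.2.1
  obtain ⟨hinj, hsc, hHN⟩ := res_pack M hH U hU0 hUinv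
  have hntU : Nontrivial ↥U := Submodule.nontrivial_iff_ne_bot.mpr hU0
  let r' : ↥R → (↥U ≃ₗ[K] ↥U) := fun r => resHom M U hUinv ⟨r.1, hR1 r.1 r.2⟩
  have hsum : ∑ i : ↥R, c i • op (r' i) = 0 := by
    apply LinearMap.ext
    intro u
    apply Subtype.ext
    have h1 := h0 u u.2
    rw [← hc] at h1
    simp only [LinearMap.sum_apply, LinearMap.smul_apply] at h1
    simp only [LinearMap.sum_apply, LinearMap.smul_apply, LinearMap.zero_apply,
      Submodule.coe_sum, Submodule.coe_smul, ZeroMemClass.coe_zero]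
    exact h1
  have hfinN : Finite (resHom M U hUinv).range := by
    have e := MonoidHom.ofInjective hinj
    exact Finite.of_equiv _ e.toEquiv
  have hcardN : Nat.card (resHom M U hUinv).range = Nat.card M :=
    (Nat.card_congr (MonoidHom.ofInjective hinj).toEquiv).symm
  have hN : (Nat.card (resHom M U hUinv).range : K) ≠ 0 := by
    rw [hcardN]
    intro h
    rw [CharP.cast_eq_zero_iff K 2] at h
    exact (Nat.not_even_iff_odd.mpr hodd) (even_iff_two_dvd.mpr h)
  have hall := linIndep (resHom M U hUinv).range (irr_res M U hU) hN hHN r'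
    (fun i => ⟨_, rfl⟩)
    (by
      intro i j hij
      have h1 : (r' i)⁻¹ * r' j =
          resHom M U hUinv (⟨i.1, hR1 i.1 i.2⟩⁻¹ * ⟨j.1, hR1 j.1 j.2⟩) := by
        rw [map_mul, map_inv]
      rw [h1] at hij
      have h2 := (hsc _).1 hij
      have h3 : (i.1 : V ≃ₗ[K] V)⁻¹ * j.1 ∈ Z :=
        (hZ _).2 ⟨M.mul_mem (M.inv_mem (hR1 i.1 i.2)) (hR1 j.1 j.2), h2⟩
      exact Subtype.ext (hR3 i.1 i.2 j.1 j.2 h3))
    c hsum
  rw [← hc]
  exact Finset.sum_eq_zero (fun i _ => by rw [hall i, zero_smul])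

end Cfsg.Agent.Helper10.GrossP
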