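import Mathlib
import Cfsg.Agent.Lib.S3801P.GPDefs
import Cfsg.Agent.Lib.S3801P.GPSpanTop
import Cfsg.Agent.Lib.S3801P.GPRes

/-!
# Gross (T), block P, piece GP-LIFT (S3801; designer helper10)

Every endomorphism of a simple `M`-submodule `U` is the restriction of an element of `spanOp M`.
Proof: `N := (resHom M U hU.2.1).range` is irreducible on `U` (`irr_res`), `|N|` divides `|M|` (odd) so is
`≠ 0` in `K`; `span_top` gives `T ∈ spanOp N`; by `Submodule.span_induction` every element of `spanOp N` lifts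
(`op (resHom M U _ ⟨x, hx⟩)` lifts to `op x` by `op_resHom_apply`; sums and scalar multiples lift).
-/

set_option autoImplicit false

namespace Cfsg.Agent.Helper10.GrossP

open Cfsg.Agent.Helper4.ThB

variable {K : Type*} [Field K] {V : Type*} [AddCommGroup V] [Module K V]

theorem exists_lift [IsAlgClosed K] [CharP K 2] [FiniteDimensional K V]
    (M : Subgroup (V ≃ₗ[K] V)) [Finite M] (hodd : Odd (Nat.card M)) (U : Submodule K V)
    (hU : Simp (M : Set (V ≃ₗ[K] V)) U) (T : Module.End K U) :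
    ∃ S ∈ spanOp M, ∀ u : U, S (u : V) = ((T u : U) : V) := by
  classical
  haveI hfinN : Finite ↥(resHom M U hU.2.1).range :=
    Finite.of_surjective _ (MonoidHom.rangeRestrict_surjective (resHom M U hU.2.1))
  haveI hnt : Nontrivial ↥U := Submodule.nontrivial_iff_ne_bot.2 hU.1
  have hirr := irr_res M U hU
  -- `|N| ≠ 0` in `K`
  have hN : (Nat.card ↥(resHom M U hU.2.1).range : K) ≠ 0 := by
    have hdvd : Nat.card ↥(resHom M U hU.2.1).range ∣ Nat.card ↥M :=
      Subgroup.card_range_dvd (resHom M U hU.2.1)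
    intro h0
    rw [CharP.cast_eq_zero_iff K 2] at h0
    have h2 : 2 ∣ Nat.card ↥M := dvd_trans h0 hdvd
    rcases hodd with ⟨r, hr⟩
    omega
  have hT := span_top (resHom M U hU.2.1).range hirr hN T
  -- every element of `spanOp N` lifts
  unfold spanOp at hT
  induction hT using Submodule.span_induction with
  | mem T' hT' =>
    obtain ⟨y, hy, rfl⟩ := hT'
    obtain ⟨x, rfl⟩ := hy
    exact ⟨op (x : V ≃ₗ[K] V), op_mem_spanOp x.2, fun u => (op_resHom_apply M U hU.2.1 x u).symm⟩
  | zero =>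
    exact ⟨0, Submodule.zero_mem _, fun u => rfl⟩
  | add T1 T2 _ _ ih1 ih2 =>
    obtain ⟨S1, hS1, h1⟩ := ih1
    obtain ⟨S2, hS2, h2⟩ := ih2
    refine ⟨S1 + S2, Submodule.add_mem _ hS1 hS2, fun u => ?_⟩
    rw [LinearMap.add_apply, LinearMap.add_apply, Submodule.coe_add, h1, h2]
  | smul c T1 _ ih =>
    obtain ⟨S1, hS1, h1⟩ := ih
    refine ⟨c • S1, Submodule.smul_mem _ c hS1, fun u => ?_⟩
    rw [LinearMap.smul_apply, LinearMap.smul_apply, Submodule.coe_smul, h1]

end Cfsg.Agent.Helper10.GrossP
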