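import Mathlib
import Cfsg.Agent.Lib.S3801P.GPDefs
import Cfsg.Agent.Lib.S3801P.GPInj
import Cfsg.Agent.Lib.S3801P.GPLift
import Cfsg.Agent.Lib.S3801P.GPAlg

/-!
# Gross (T), block P, piece GP-HOM (S3801; designer helper10)

**Stone-von Neumann**: any two simple submodules `U`, `U'` of `V` for a Heisenberg-type group `M` of odd order
(char 2) are `M`-isomorphic.  By `isoM_map hU F hF hne` it suffices to find `F : End V` with
`F (g u) = g (F u)` (`g ∈ M`, `u ∈ U`), `F u₀ ≠ 0` for some `u₀ ∈ U`, and `F u ∈ U'` for `u ∈ U`: then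
`U.map F ≤ U'` is simple, so `= U'` (simplicity of `U'`).
Route A (via GP-LIFT/GP-INJ): pick `u₀ ∈ U`, `φ₀ : Dual K U` with `φ₀ u₀ = 1`; for `u : U` let `T u ∈ spanOp M` be
the lift (`exists_lift`) of the rank-one map `φ₀.smulRight u : End U`; the lift is UNIQUE (`restrict_inj` on the
difference), hence `u ↦ T u` is linear and `T (g u) = op g * T u` (`spanOp_mul_mem`, compare restrictions).  Let
`e := T u₀` (so `e u = φ₀ u • u₀` on `U`, `e ≠ 0`); by `restrict_inj` for `U'` there is `w₀ ∈ U'` with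
`w' := e w₀ ≠ 0`; `w' ∈ U'` (`spanOp_apply_mem`) and `e w' = w'` (`e * e = e` by uniqueness).  Put
`f u := T u w'` on `U` (linear, `M`-equivariant, values in `U'`, `f u₀ = e w' = w' ≠ 0`) and extend `f` to `V`
(`LinearMap.exists_extend`).
Route B (averaging): `F := avg M (φ.smulRight w')` (`avg_comm` gives equivariance; values in `U'` if `w' ∈ U'`);
`F u₀ = ∑ x, φ (x⁻¹ u₀) • x w' = S w'` with `S := ∑ x, φ (x⁻¹ u₀) • op x ∈ spanOp M`; on `U` one has
`S u = (|M| φ u / dim U) • u₀` (Schur + trace on `U`, as in `four_rank_one`), so `S ≠ 0` if `φ u₀ ≠ 0`, and then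
`S w' ≠ 0` for some `w' ∈ U'` by `restrict_inj` for `U'`.
-/

set_option autoImplicit false

namespace Cfsg.Agent.Helper10.GrossP

open Cfsg.Agent.Helper4.ThB

variable {K : Type*} [Field K] {V : Type*} [AddCommGroup V] [Module K V]

theorem hom [IsAlgClosed K] [CharP K 2] [FiniteDimensional K V]
    (M : Subgroup (V ≃ₗ[K] V)) [Finite M] (hodd : Odd (Nat.card M)) (hH : Heis M)
    (U U' : Submodule K V) (hU : Simp (M : Set (V ≃ₗ[K] V)) U)
    (hU' : Simp (M : Set (V ≃ₗ[K] V)) U') : IsoM (M : Set (V ≃ₗ[K] V)) U U' := by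
  classical
  obtain ⟨u₀, hu₀U, hu₀⟩ := Submodule.exists_mem_ne_zero_of_ne_bot hU.1
  have hu₀' : (⟨u₀, hu₀U⟩ : U) ≠ 0 := fun h => hu₀ (congrArg Subtype.val h)
  obtain ⟨φ, hφ⟩ : ∃ φ : Module.Dual K U, φ ⟨u₀, hu₀U⟩ ≠ 0 := by
    by_contra hcon
    push Not at hcon
    exact hu₀' ((Module.forall_dual_apply_eq_zero_iff K _).1 hcon)
  have hφ₀ : ((φ ⟨u₀, hu₀U⟩)⁻¹ • φ) ⟨u₀, hu₀U⟩ = 1 := by
    rw [LinearMap.smul_apply, smul_eq_mul, inv_mul_cancel₀ hφ]
  generalize (φ ⟨u₀, hu₀U⟩)⁻¹ • φ = φ₀ at hφ₀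
  obtain ⟨e, heA, he⟩ := exists_lift M hodd U hU (φ₀.smulRight (⟨u₀, hu₀U⟩ : U))
  have he' : ∀ u : U, e (u : V) = φ₀ u • u₀ := by
    intro u
    rw [he, LinearMap.smulRight_apply]
    rfl
  have heu₀ : e u₀ = u₀ := by
    have := he' ⟨u₀, hu₀U⟩
    rw [hφ₀, one_smul] at this
    exact this
  have hkey : ∀ S ∈ spanOp M, S u₀ = 0 → S * e = 0 := by
    intro S hS h0
    apply restrict_inj M hodd hH U hU (S * e) (spanOp_mul_mem M hS heA)
    intro u hu
    rw [Module.End.mul_apply, he' ⟨u, hu⟩, map_smul, h0, smul_zero]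
  have hee : e * e = e := by
    have h1 : (e - 1) * e = 0 := by
      apply hkey (e - 1) (sub_mem heA (one_mem_spanOp M))
      rw [LinearMap.sub_apply, heu₀, Module.End.one_apply, sub_self]
    rw [sub_mul, one_mul, sub_eq_zero] at h1
    exact h1
  have hene : e ≠ 0 := by
    intro h
    apply hu₀
    rw [← heu₀, h]
    rfl
  obtain ⟨w₀, hw₀U', hw₀⟩ : ∃ w₀ ∈ U', e w₀ ≠ 0 := by
    by_contra hcon
    push Not at hcon
    exact hene (restrict_inj M hodd hH U' hU' e heA hcon)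
  have hw'U' : e w₀ ∈ U' := spanOp_apply_mem M hU'.2.1 heA hw₀U'
  have hew' : e (e w₀) = e w₀ := by
    rw [← Module.End.mul_apply, hee]
  have hwd : ∀ S ∈ spanOp M, S u₀ = 0 → S (e w₀) = 0 := by
    intro S hS h0
    have h1 := hkey S hS h0
    rw [← hew', ← Module.End.mul_apply, h1]
    rfl
  let Ψ : spanOp M →ₗ[K] U :=
    { toFun := fun S => ⟨S.1 u₀, spanOp_apply_mem M hU.2.1 S.2 hu₀U⟩
      map_add' := fun S T => Subtype.ext rfl
      map_smul' := fun c S => Subtype.ext rfl }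
  have hΨ : Function.Surjective Ψ := by
    intro u
    obtain ⟨S, hSA, hS⟩ := exists_lift M hodd U hU (φ₀.smulRight u)
    refine ⟨⟨S, hSA⟩, Subtype.ext ?_⟩
    show S u₀ = u
    have h1 := hS ⟨u₀, hu₀U⟩
    rw [LinearMap.smulRight_apply, hφ₀, one_smul] at h1
    exact h1
  obtain ⟨σ, hσ⟩ := LinearMap.exists_rightInverse_of_surjective Ψ (LinearMap.range_eq_top.2 hΨ)
  have hσu : ∀ u : U, (σ u).1 u₀ = u := by
    intro u
    have h1 := LinearMap.congr_fun hσ u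
    exact congrArg Subtype.val h1
  let f : U →ₗ[K] V := ((LinearMap.applyₗ (e w₀)).comp (spanOp M).subtype).comp σ
  have hf : ∀ u : U, f u = (σ u).1 (e w₀) := fun u => rfl
  obtain ⟨F, hF⟩ := LinearMap.exists_extend f
  have hFu : ∀ u (hu : u ∈ U), F u = (σ ⟨u, hu⟩).1 (e w₀) := by
    intro u hu
    have h1 := LinearMap.congr_fun hF ⟨u, hu⟩
    rw [← hf]
    exact h1
  have hFeq : ∀ g ∈ (M : Set (V ≃ₗ[K] V)), ∀ u ∈ U, F (g u) = g (F u) := by
    intro g hg u hu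
    have hgu : g u ∈ U := hU.2.1 g hg u hu
    rw [hFu _ hgu, hFu _ hu]
    have hD : (σ ⟨g u, hgu⟩).1 - op g * (σ ⟨u, hu⟩).1 ∈ spanOp M :=
      sub_mem (σ ⟨g u, hgu⟩).2 (spanOp_mul_mem M (op_mem_spanOp hg) (σ ⟨u, hu⟩).2)
    have h1 := hwd _ hD (by
      rw [LinearMap.sub_apply, Module.End.mul_apply, hσu, hσu]
      show g u - g u = 0
      rw [sub_self])
    rw [LinearMap.sub_apply, sub_eq_zero] at h1
    rw [h1]
    rfl
  have hne : F u₀ ≠ 0 := by
    rw [hFu _ hu₀U]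
    have hD : (σ ⟨u₀, hu₀U⟩).1 - e ∈ spanOp M := sub_mem (σ ⟨u₀, hu₀U⟩).2 heA
    have h1 := hwd _ hD (by
      rw [LinearMap.sub_apply, hσu, heu₀]
      show u₀ - u₀ = 0
      rw [sub_self])
    rw [LinearMap.sub_apply, sub_eq_zero] at h1
    rw [h1, hew']
    exact hw₀
  have hval : ∀ u ∈ U, F u ∈ U' := by
    intro u hu
    rw [hFu _ hu]
    exact spanOp_apply_mem M hU'.2.1 (σ ⟨u, hu⟩).2 hw'U'
  obtain ⟨hiso, hsimp⟩ := isoM_map hU F hFeq ⟨u₀, hu₀U, hne⟩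
  have hle : U.map F ≤ U' := by
    rintro _ ⟨u, hu, rfl⟩
    exact hval u hu
  rcases hU'.2.2 _ hle hsimp.2.1 with h | h
  · exact absurd h hsimp.1
  · rw [h] at hiso
    exact hiso

end Cfsg.Agent.Helper10.GrossP
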