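import Mathlib
import Cfsg.Agent.Lib.S3801P.GPDefs
import Cfsg.Agent.Lib.S3801P.GPHom
import Cfsg.Agent.Lib.S3801P.GPAlg

/-!
# Gross (T), block P, piece GP-FREE (S3801; designer helper10)

Freeness hypothesis of the tensor step.  `N' ∈ spanOp M` is nonzero on the simple submodule `U₁`; then for every
`v ≠ 0` some `S ∈ spanOp M` has `N' (S v) ≠ 0`.  Proof: `W := {S v | S ∈ spanOp M}` (= `(spanOp M).map (LinearMap.applyₗ v)`)
is a nonzero (`v = 1 v`, `one_mem_spanOp`) `M`-invariant (`spanOp_mul_mem`, `op_mem_spanOp`) subspace; `exists_simp`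
gives a simple `U' ≤ W`; `hom` gives `f` with `IsoM M U₁ U'`: `f` maps `U₁` into `U'`, is injective on `U₁` and
intertwines `M` on `U₁`, hence intertwines `spanOp M` on `U₁` (`intertwine_spanOp`).  With `u ∈ U₁`, `N' u ≠ 0`:
`N' u ∈ U₁` (`spanOp_apply_mem`), so `0 ≠ f (N' u) = N' (f u)`, and `f u ∈ U' ≤ W` is `S v`.
-/

set_option autoImplicit false

namespace Cfsg.Agent.Helper10.GrossP

open Cfsg.Agent.Helper4.ThB

variable {K : Type*} [Field K] {V : Type*} [AddCommGroup V] [Module K V]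

theorem free_of_ne [IsAlgClosed K] [CharP K 2] [FiniteDimensional K V]
    (M : Subgroup (V ≃ₗ[K] V)) [Finite M] (hodd : Odd (Nat.card M)) (hH : Heis M)
    (U₁ : Submodule K V) (hU₁ : Simp (M : Set (V ≃ₗ[K] V)) U₁) (N' : Module.End K V)
    (hN' : N' ∈ spanOp M) (hne : ∃ u ∈ U₁, N' u ≠ 0) (v : V) (hv : v ≠ 0) :
    ∃ S ∈ spanOp M, N' (S v) ≠ 0 := by
  classical
  obtain ⟨u, hu, hNu⟩ := hne
  have hWmem : ∀ w, w ∈ (spanOp M).map (LinearMap.applyₗ (R := K) (M₂ := V) v) ↔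
      ∃ S ∈ spanOp M, S v = w := by
    intro w
    rw [Submodule.mem_map]
    rfl
  have hW0 : (spanOp M).map (LinearMap.applyₗ (R := K) (M₂ := V) v) ≠ ⊥ := by
    intro h
    have h1 : v ∈ (spanOp M).map (LinearMap.applyₗ (R := K) (M₂ := V) v) :=
      (hWmem v).mpr ⟨1, one_mem_spanOp M, rfl⟩
    rw [h, Submodule.mem_bot] at h1
    exact hv h1
  have hWinv : Inv (M : Set (V ≃ₗ[K] V)) ((spanOp M).map (LinearMap.applyₗ (R := K) (M₂ := V) v)) := by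
    intro g hg w hw
    obtain ⟨S, hS, rfl⟩ := (hWmem w).mp hw
    exact (hWmem _).mpr ⟨op g * S, spanOp_mul_mem M (op_mem_spanOp (SetLike.mem_coe.mp hg)) hS, rfl⟩
  obtain ⟨U', hU'W, hU'⟩ := exists_simp (M : Set (V ≃ₗ[K] V)) hW0 hWinv
  obtain ⟨f, hf1, hf2, -, hf4⟩ := hom M hodd hH U₁ U' hU₁ hU'
  have hN'u : N' u ∈ U₁ := spanOp_apply_mem M hU₁.2.1 hN' hu
  have h1 : f (N' u) ≠ 0 := fun h => hNu (hf2 _ hN'u h)
  have h2 : f (N' u) = N' (f u) := intertwine_spanOp M U₁ f hf4 hN' hu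
  obtain ⟨S, hS, hSv⟩ := (hWmem _).mp (hU'W (hf1 u hu))
  refine ⟨S, hS, ?_⟩
  rw [hSv, ← h2]
  exact h1

end Cfsg.Agent.Helper10.GrossP
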