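import Mathlib
import Cfsg.Agent.Lib.S3801P.GPDefs
import Cfsg.Agent.Lib.Helper4.ThBPoly
import Cfsg.Agent.Lib.Helper4.ThBCliffA

/-!
# Gross (T), block P, piece GP-TIGHT (S3801; designer helper10)

Small facts: a tight element has `a ^ 2 ^ m = 1` (`(op a - 1)^(2^m) = 0` and `sub_one_pow_char_pow K (op a) m` with `p = 2`,
then `op_pow`, `op_injective`); an element of finite order normalising `M` has its inverse normalising `M`
(`a⁻¹ = a ^ (k - 1)`, `normalizes_pow`).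
-/

set_option autoImplicit false

namespace Cfsg.Agent.Helper10.GrossP

open Cfsg.Agent.Helper4.ThB

variable {K : Type*} [Field K] {V : Type*} [AddCommGroup V] [Module K V]

theorem pow_eq_one_of_tight [CharP K 2] (a : V ≃ₗ[K] V) (m : ℕ) (hm : 1 ≤ m)
    (ht : (op a - 1) ^ (2 ^ m - 1) = 0) : a ^ 2 ^ m = 1 := by
  have hpos : 0 < 2 ^ m := pos_of_ne_zero (pow_ne_zero _ (by norm_num))
  have h1 : (op a - 1) ^ (2 ^ m) = 0 := by
    have e : 2 ^ m = (2 ^ m - 1) + 1 := (Nat.sub_add_cancel hpos).symm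
    rw [e, pow_succ, ht, zero_mul]
  have h2 := sub_one_pow_char_pow (p := 2) K (op a) m
  rw [h1] at h2
  have h3 : op a ^ (2 ^ m) = 1 := (sub_eq_zero.mp h2.symm)
  apply op_injective
  rw [op_pow, h3, op_one]

theorem inv_normalizes (M : Subgroup (V ≃ₗ[K] V)) (a : V ≃ₗ[K] V)
    (hn1 : ∀ g ∈ M, a * g * a⁻¹ ∈ M) (k : ℕ) (hk0 : 0 < k) (hk : a ^ k = 1) :
    ∀ g ∈ M, a⁻¹ * g * a ∈ M := by
  intro g hg
  have e1 : a ^ (k - 1) * a = 1 := by
    rw [← pow_succ, Nat.sub_add_cancel hk0, hk]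
  have e2 : a⁻¹ = a ^ (k - 1) := (eq_inv_of_mul_eq_one_left e1).symm
  have h1 := normalizes_pow M a hn1 (k - 1) g hg
  rw [← e2, inv_inv] at h1
  exact h1

/-- `2 ^ m - 1` is nonzero in characteristic 2 -/
theorem two_pow_sub_one_ne_zero [CharP K 2] (m : ℕ) (hm : 1 ≤ m) : ((2 ^ m - 1 : ℕ) : K) ≠ 0 := by
  intro h
  rw [CharP.cast_eq_zero_iff K 2] at h
  obtain ⟨j, rfl⟩ : ∃ j, m = j + 1 := ⟨m - 1, by omega⟩
  have h2 : 2 ^ (j + 1) = 2 * 2 ^ j := pow_succ' 2 j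
  have hpos : 0 < 2 ^ j := pos_of_ne_zero (pow_ne_zero _ (by norm_num))
  omega

end Cfsg.Agent.Helper10.GrossP
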