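import Mathlib
import Cfsg.Agent.Lib.S3801P.GPDefs
import Cfsg.Agent.Lib.S3801P.GPInj
import Cfsg.Agent.Lib.S3801P.GPLift
import Cfsg.Agent.Lib.S3801P.GPAlg

/-!
# Gross (T), block P, piece GP-UNIT (S3801; designer helper10)

A unit `t` of the algebra `spanOp M` which agrees with `a` on the `a`-stable simple submodule `U₁`, and its
conjugation action on `M` is that of `a`.  Proof: `a` and `a⁻¹` preserve `U₁` (`hst`, `mem_img`), so they restrict
to `T, T' : End U₁`; `t, t'` := lifts (`exists_lift`); `t * t' - 1 ∈ spanOp M` (`spanOp_mul_mem`, `one_mem_spanOp`)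
vanishes on `U₁`, so is `0` (`restrict_inj`); same for `t' * t`.  For `x ∈ M`: `op (a x a⁻¹) * t - t * op x ∈ spanOp M`
vanishes on `U₁` (`a x a⁻¹ (a u) = a (x u)` and `x u ∈ U₁`), so is `0`.
-/

set_option autoImplicit false

namespace Cfsg.Agent.Helper10.GrossP

open Cfsg.Agent.Helper4.ThB

variable {K : Type*} [Field K] {V : Type*} [AddCommGroup V] [Module K V]

theorem exists_unit [IsAlgClosed K] [CharP K 2] [FiniteDimensional K V]
    (M : Subgroup (V ≃ₗ[K] V)) [Finite M] (hodd : Odd (Nat.card M)) (hH : Heis M)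
    (a : V ≃ₗ[K] V) (hn1 : ∀ g ∈ M, a * g * a⁻¹ ∈ M) (U₁ : Submodule K V)
    (hU₁ : Simp (M : Set (V ≃ₗ[K] V)) U₁) (hst : img a U₁ = U₁) :
    ∃ t ∈ spanOp M, ∃ t' ∈ spanOp M, t * t' = 1 ∧ t' * t = 1 ∧ (∀ u ∈ U₁, t u = a u) ∧
      ∀ x ∈ M, op (a * x * a⁻¹) * t = t * op x := by
  classical
  have hinv1 : ∀ v : V, a⁻¹ (a v) = v := fun v => by
    show (a⁻¹ * a) v = v
    rw [inv_mul_cancel]; rfl
  have hinv2 : ∀ v : V, a (a⁻¹ v) = v := fun v => by
    show (a * a⁻¹) v = v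
    rw [mul_inv_cancel]; rfl
  have hInv : Inv (M : Set (V ≃ₗ[K] V)) U₁ := hU₁.2.1
  -- `a` and `a⁻¹` preserve `U₁`
  have ha1 : ∀ u ∈ U₁, op a u ∈ U₁ := by
    intro u hu
    have h1 : a u ∈ img a U₁ := by
      rw [mem_img, hinv1]; exact hu
    rw [hst] at h1
    exact h1
  have ha2 : ∀ u ∈ U₁, op a⁻¹ u ∈ U₁ := by
    intro u hu
    have h1 : u ∈ img a U₁ := by rw [hst]; exact hu
    exact mem_img.mp h1
  obtain ⟨t, ht, hta⟩ := exists_lift M hodd U₁ hU₁ ((op a).restrict ha1)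
  obtain ⟨t', ht', hta'⟩ := exists_lift M hodd U₁ hU₁ ((op a⁻¹).restrict ha2)
  have htu : ∀ u ∈ U₁, t u = a u := by
    intro u hu
    have := hta ⟨u, hu⟩
    rw [LinearMap.restrict_coe_apply] at this
    exact this
  have htu' : ∀ u ∈ U₁, t' u = a⁻¹ u := by
    intro u hu
    have := hta' ⟨u, hu⟩
    rw [LinearMap.restrict_coe_apply] at this
    exact this
  have h1 : t * t' = 1 := by
    have hS : t * t' - 1 ∈ spanOp M :=
      Submodule.sub_mem _ (spanOp_mul_mem M ht ht') (one_mem_spanOp M)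
    have h0 : ∀ u ∈ U₁, (t * t' - 1) u = 0 := by
      intro u hu
      rw [LinearMap.sub_apply, Module.End.mul_apply, Module.End.one_apply, htu' u hu,
        htu (a⁻¹ u) (ha2 u hu), hinv2, sub_self]
    exact sub_eq_zero.mp (restrict_inj M hodd hH U₁ hU₁ _ hS h0)
  have h2 : t' * t = 1 := by
    have hS : t' * t - 1 ∈ spanOp M :=
      Submodule.sub_mem _ (spanOp_mul_mem M ht' ht) (one_mem_spanOp M)
    have h0 : ∀ u ∈ U₁, (t' * t - 1) u = 0 := by
      intro u hu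
      rw [LinearMap.sub_apply, Module.End.mul_apply, Module.End.one_apply, htu u hu,
        htu' (a u) (ha1 u hu), hinv1, sub_self]
    exact sub_eq_zero.mp (restrict_inj M hodd hH U₁ hU₁ _ hS h0)
  refine ⟨t, ht, t', ht', h1, h2, htu, ?_⟩
  intro x hx
  have hS : op (a * x * a⁻¹) * t - t * op x ∈ spanOp M :=
    Submodule.sub_mem _ (spanOp_mul_mem M (op_mem_spanOp (hn1 x hx)) ht)
      (spanOp_mul_mem M ht (op_mem_spanOp hx))
  have h0 : ∀ u ∈ U₁, (op (a * x * a⁻¹) * t - t * op x) u = 0 := by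
    intro u hu
    have hxu : x u ∈ U₁ := hInv x hx u hu
    rw [LinearMap.sub_apply, Module.End.mul_apply, Module.End.mul_apply, htu u hu]
    have e1 : op (a * x * a⁻¹) (a u) = a (x u) := by
      show a (x (a⁻¹ (a u))) = a (x u)
      rw [hinv1]
    have e2 : t (op x u) = a (x u) := htu _ hxu
    rw [e1, e2, sub_self]
  exact sub_eq_zero.mp (restrict_inj M hodd hH U₁ hU₁ _ hS h0)

end Cfsg.Agent.Helper10.GrossP
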