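import Mathlib
import Cfsg.Agent.Lib.S3801P.GPDefs
import Cfsg.Agent.Lib.S3801P.GPUnit
import Cfsg.Agent.Lib.S3801P.GPFree
import Cfsg.Agent.Lib.S3801P.GPTight
import Cfsg.Agent.Lib.Helper2.GrossTensor

/-!
# Gross (T), block P, piece GP-LINMAIN (S3801; designer helper10)

`op a ∈ spanOp M` by the tensor step (`Cfsg.Agent.Helper2.GrossTensor.tensor_step` with `n = 2^m - 1`,
`A = spanOp M`, `a := t`, `b := t' * op a`).  `t, t'` from `exists_unit`.
* `b` commutes with every `op x`, `x ∈ M`: from `op (a x a⁻¹) * t = t * op x` get `t' * op (a x a⁻¹) = op x * t'`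
  (multiply by `t'` on both sides), so `b * op x = t' * op (a x a⁻¹) * op a = op x * t' * op a`.  Hence `b` commutes with
  `spanOp M` (`commute_spanOp`), in particular with `t` and `t'`; `op a = t * b`.
* `(t - 1)^(2^m-1) = 0`: it lies in `spanOp M` and vanishes on `U₁` (on `U₁`, `t` acts as `a`, `U₁` is `a`-stable),
  so `restrict_inj`.  Similarly `t ^ 2 ^ m = 1` (`pow_eq_one_of_tight`), hence `t' ^ 2 ^ m = 1` and
  `b ^ 2 ^ m = t' ^ 2 ^ m * (op a) ^ 2 ^ m = 1` (`t'` and `op a = t * b` commute), so `(b - 1)^(2^m) = 0`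
  (`sub_one_pow_char_pow`): `IsNilpotent (b - 1)`.
* freeness: `free_of_ne` with `N' = (t - 1)^(2^m-2) ∈ spanOp M`, nonzero on `U₁` by `hne`.
-/

set_option autoImplicit false

namespace Cfsg.Agent.Helper10.GrossP

open Cfsg.Agent.Helper4.ThB

variable {K : Type*} [Field K] {V : Type*} [AddCommGroup V] [Module K V]

/-- on an `a`-stable subspace on which `t` acts as `a`, the powers of `t - 1` act as those of `op a - 1` -/
theorem gplinmain_pow_agree (a : V ≃ₗ[K] V) (t : Module.End K V) (U₁ : Submodule K V)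
    (hst : img a U₁ = U₁) (htU : ∀ u ∈ U₁, t u = a u) (k : ℕ) :
    ∀ u ∈ U₁, ((t - 1) ^ k) u = ((op a - 1 : Module.End K V) ^ k) u ∧
      ((op a - 1 : Module.End K V) ^ k) u ∈ U₁ := by
  have haU : ∀ u ∈ U₁, a u ∈ U₁ := by
    intro u hu
    rw [← hst, mem_img]
    have h1 : a⁻¹ (a u) = u := by
      show (a⁻¹ * a) u = u
      rw [inv_mul_cancel]
      rfl
    rw [h1]
    exact hu
  induction k with
  | zero =>
    intro u hu
    exact ⟨rfl, hu⟩
  | succ k ih =>
    intro u hu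
    have h1 : (t - 1) u = (op a - 1 : Module.End K V) u := by
      rw [LinearMap.sub_apply, LinearMap.sub_apply, htU u hu]
      rfl
    have h2 : (op a - 1 : Module.End K V) u ∈ U₁ := by
      rw [LinearMap.sub_apply]
      exact U₁.sub_mem (haU u hu) hu
    rw [pow_succ, pow_succ, Module.End.mul_apply, Module.End.mul_apply, h1]
    exact ih _ h2

theorem lin_main [IsAlgClosed K] [CharP K 2] [FiniteDimensional K V]
    (M : Subgroup (V ≃ₗ[K] V)) [Finite M] (hodd : Odd (Nat.card M)) (hH : Heis M)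
    (a : V ≃ₗ[K] V) (hn1 : ∀ g ∈ M, a * g * a⁻¹ ∈ M) (m : ℕ) (hm : 1 ≤ m)
    (ht : (op a - 1) ^ (2 ^ m - 1) = 0) (U₁ : Submodule K V)
    (hU₁ : Simp (M : Set (V ≃ₗ[K] V)) U₁) (hst : img a U₁ = U₁)
    (hne : ∃ u ∈ U₁, ((op a - 1 : Module.End K V) ^ (2 ^ m - 2)) u ≠ 0) : op a ∈ spanOp M := by
  have hf2 : Fact (Nat.Prime 2) := ⟨Nat.prime_two⟩
  obtain ⟨t, htS, t', ht'S, htt', ht't, htU, hconj⟩ := exists_unit M hodd hH a hn1 U₁ hU₁ hst
  obtain ⟨b, hbdef⟩ : ∃ b : Module.End K V, b = t' * op a := ⟨_, rfl⟩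
  have hagree := gplinmain_pow_agree a t U₁ hst htU
  -- `b` commutes with `M`
  have hbx : ∀ x ∈ M, b * op x = op x * b := by
    intro x hx
    have h1 : t' * op (a * x * a⁻¹) = op x * t' := by
      calc t' * op (a * x * a⁻¹) = t' * op (a * x * a⁻¹) * (t * t') := by rw [htt', mul_one]
        _ = t' * (op (a * x * a⁻¹) * t) * t' := by simp only [mul_assoc]
        _ = t' * (t * op x) * t' := by rw [hconj x hx]
        _ = (t' * t) * op x * t' := by simp only [mul_assoc]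
        _ = op x * t' := by rw [ht't, one_mul]
    have h2 : op a * op x = op (a * x * a⁻¹) * op a := by
      rw [← op_mul, ← op_mul]
      congr 1
      group
    calc b * op x = t' * (op a * op x) := by rw [hbdef, mul_assoc]
      _ = t' * (op (a * x * a⁻¹) * op a) := by rw [h2]
      _ = (t' * op (a * x * a⁻¹)) * op a := (mul_assoc _ _ _).symm
      _ = op x * t' * op a := by rw [h1]
      _ = op x * b := by rw [hbdef, mul_assoc]
  have hbS : ∀ S ∈ spanOp M, Commute b S := fun S hS => commute_spanOp M b hbx hS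
  have hbt : Commute b t := hbS t htS
  have hbt' : Commute b t' := hbS t' ht'S
  have hatb : op a = t * b := by
    rw [hbdef, ← mul_assoc, htt', one_mul]
  -- `(t - 1)^(2^m - 1) = 0`
  have ht1 : (t - 1) ^ (2 ^ m - 1) = 0 := by
    apply restrict_inj M hodd hH U₁ hU₁
    · exact spanOp_pow_mem M ((spanOp M).sub_mem htS (one_mem_spanOp M)) _
    · intro u hu
      rw [(hagree (2 ^ m - 1) u hu).1, ht]
      rfl
  have hpos : 0 < 2 ^ m := pos_of_ne_zero (pow_ne_zero _ (by norm_num))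
  have hsucc : 2 ^ m = (2 ^ m - 1) + 1 := by omega
  have htpow : t ^ 2 ^ m = 1 := by
    have h1 : (t - 1) ^ 2 ^ m = 0 := by
      rw [hsucc, pow_succ, ht1, zero_mul]
    rw [sub_one_pow_char_pow K t m, sub_eq_zero] at h1
    exact h1
  have hapow : (op a) ^ 2 ^ m = 1 := by
    have h1 : (op a - 1) ^ 2 ^ m = 0 := by
      rw [hsucc, pow_succ, ht, zero_mul]
    rw [sub_one_pow_char_pow K (op a) m, sub_eq_zero] at h1
    exact h1
  have hctt' : Commute t' t := by
    show t' * t = t * t'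
    rw [ht't, htt']
  have ht'pow : t' ^ 2 ^ m = 1 := by
    have h1 : (t' * t) ^ 2 ^ m = t' ^ 2 ^ m * t ^ 2 ^ m := hctt'.mul_pow _
    rw [ht't, one_pow, htpow, mul_one] at h1
    exact h1.symm
  have hct'a : Commute t' (op a) := by
    rw [hatb]
    exact hctt'.mul_right hbt'.symm
  have hbpow : b ^ 2 ^ m = 1 := by
    rw [hbdef, hct'a.mul_pow, ht'pow, hapow, one_mul]
  have hb1 : IsNilpotent (b - 1) := by
    refine ⟨2 ^ m, ?_⟩
    rw [sub_one_pow_char_pow K b m, hbpow, sub_self]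
  -- the tensor step
  have hn : ((2 ^ m - 1 : ℕ) : K) ≠ 0 := two_pow_sub_one_ne_zero m hm
  have hab : (t * b - 1) ^ (2 ^ m - 1) = 0 := by
    rw [← hatb]
    exact ht
  have hfree : ∀ v : V, v ≠ 0 → ∃ x ∈ (spanOp M : Set (Module.End K V)),
      ((t - 1 : Module.End K V) ^ (2 ^ m - 1 - 1)) (x v) ≠ 0 := by
    intro v hv
    have hN' : (t - 1) ^ (2 ^ m - 1 - 1) ∈ spanOp M :=
      spanOp_pow_mem M ((spanOp M).sub_mem htS (one_mem_spanOp M)) _
    have hne' : ∃ u ∈ U₁, ((t - 1 : Module.End K V) ^ (2 ^ m - 1 - 1)) u ≠ 0 := by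
      obtain ⟨u, hu, hu0⟩ := hne
      refine ⟨u, hu, ?_⟩
      rw [(hagree (2 ^ m - 1 - 1) u hu).1, Nat.sub_sub]
      exact hu0
    obtain ⟨S, hS, hS0⟩ := free_of_ne M hodd hH U₁ hU₁ _ hN' hne' v hv
    exact ⟨S, hS, hS0⟩
  have hb_one : b = 1 :=
    Cfsg.Agent.Helper2.GrossTensor.tensor_step (2 ^ m - 1) hn (spanOp M : Set (Module.End K V))
      t b hbt (fun x hx => hbS x hx) hab ht1 hb1 hfree
  rw [hatb, hb_one, mul_one]
  exact htS

end Cfsg.Agent.Helper10.GrossP
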