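import Mathlib
import Cfsg.Agent.Lib.S3801P.GPDefs
import Cfsg.Agent.Lib.S3801P.GPHom

/-!
# Gross (T), block P, piece GP-STAB (S3801; designer helper10)

A simple `M`-submodule stable under the normalising element `a`: `exists_simp` (in `⊤`), `simp_img`, `hom`,
`exists_stable_simple` (Helper4 ThBCliffA/ThBCliffC).
-/

set_option autoImplicit false

namespace Cfsg.Agent.Helper10.GrossP

open Cfsg.Agent.Helper4.ThB

variable {K : Type*} [Field K] {V : Type*} [AddCommGroup V] [Module K V]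

theorem exists_stable [IsAlgClosed K] [CharP K 2] [FiniteDimensional K V] [Nontrivial V]
    (M : Subgroup (V ≃ₗ[K] V)) [Finite M] (hodd : Odd (Nat.card M)) (hH : Heis M)
    (a : V ≃ₗ[K] V) (hn1 : ∀ g ∈ M, a * g * a⁻¹ ∈ M) (hn2 : ∀ g ∈ M, a⁻¹ * g * a ∈ M) :
    ∃ U₁ : Submodule K V, Simp (M : Set (V ≃ₗ[K] V)) U₁ ∧ img a U₁ = U₁ := by
  obtain ⟨U₀, -, hU₀⟩ := exists_simp (M : Set (V ≃ₗ[K] V)) (W := (⊤ : Submodule K V))
    (by exact top_ne_bot) (fun _ _ _ _ => trivial)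
  have h1 : Simp (M : Set (V ≃ₗ[K] V)) (img a U₀) := simp_img M a hn1 hn2 hU₀
  have h2 : IsoM (M : Set (V ≃ₗ[K] V)) U₀ (img a U₀) := hom M hodd hH U₀ (img a U₀) hU₀ h1
  obtain ⟨U₁, hU₁, -, hst⟩ := exists_stable_simple M a hn2 hU₀ h2
  exact ⟨U₁, hU₁, hst⟩

end Cfsg.Agent.Helper10.GrossP
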