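import Mathlib
import Cfsg.Agent.Lib.S3801P.GPDefs
import Cfsg.Agent.Lib.S3801P.GPLinMain
import Cfsg.Agent.Lib.S3801P.GPStab
import Cfsg.Agent.Lib.S3801P.GPCritApp
import Cfsg.Agent.Lib.S3801P.GPCardM
import Cfsg.Agent.Lib.S3801P.GPScal

/-!
# Gross (T), block P, piece GP-PTLIN (assembly, helper10) (S3801; designer helper10)

The plane torus theorem, linear form.
-/

set_option autoImplicit false

namespace Cfsg.Agent.Helper10.GrossP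

open Cfsg.Agent.Helper4.ThB

variable {K : Type*} [Field K] {V : Type*} [AddCommGroup V] [Module K V]

theorem pt_lin [IsAlgClosed K] [CharP K 2] [FiniteDimensional K V] [Nontrivial V]
    (M : Subgroup (V ≃ₗ[K] V)) [Finite M] (hodd : Odd (Nat.card M))
    (hcl : ∀ x ∈ M, ∀ y ∈ M, IsSc (x * y * x⁻¹ * y⁻¹))
    (hnd : ∀ x ∈ M, (∀ y ∈ M, x * y = y * x) → IsSc x)
    (a : V ≃ₗ[K] V) (ha : ∀ x ∈ M, a * x * a⁻¹ ∈ M) (m : ℕ) (hm : 1 ≤ m)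
    (ht : (op a - 1) ^ (2 ^ m - 1) = 0)
    (hfix : ∀ x ∈ M, a ^ 2 ^ (m - 1) * x = x * a ^ 2 ^ (m - 1) → IsSc x)
    (hnt : ∃ x ∈ M, ¬ IsSc x) :
    op a ∈ spanOp M ∧
      ∀ Z : Subgroup (V ≃ₗ[K] V), IsScalSub M Z → Nat.card M = (2 ^ m - 1) ^ 2 * Nat.card Z := by
  have hH : Heis M := heis_of M hcl hnd
  have hpow : a ^ 2 ^ m = 1 := pow_eq_one_of_tight a m hm ht
  have hn2 : ∀ g ∈ M, a⁻¹ * g * a ∈ M := inv_normalizes M a ha (2 ^ m) (by positivity) hpow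
  obtain ⟨U₁, hU₁, hst⟩ := exists_stable M hodd hH a ha hn2
  obtain ⟨hfr, hne⟩ := crit_app M hodd hH a ha m hm ht hfix hnt U₁ hU₁ hst
  refine ⟨lin_main M hodd hH a ha m hm ht U₁ hU₁ hst hne, ?_⟩
  intro Z hZ
  have h := card_M M hodd hH U₁ hU₁ Z hZ
  have e : Module.finrank K U₁ = 2 ^ m - 1 := by omega
  rw [h, e]

end Cfsg.Agent.Helper10.GrossP
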