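import Mathlib
import Cfsg.Agent.Lib.S3801P.GPPtLin
import Cfsg.Agent.Lib.S3801P.GPAlg

/-!
# Gross (T), block P, piece GP-APPLY (S3801; designer helper10)

Apply `pt_lin` (GPPtLin.lean) to `M := D.map H.subtype ≤ GL(V)` for a subgroup `D` of the linear group `H`, `a := g`.
`Z' := Z.map H.subtype` is the scalar subgroup of `M` (`IsScalSub M Z'`: by `hZsc` and `hsc'`), `Nat.card M = Nat.card D`,
`Nat.card Z' = Nat.card Z` (`Subgroup.subtype_injective`, `Nat.card_congr (Subgroup.equivMapOfInjective ..)`).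
`hcl`/`hnd`/`hfix`/`hnt` of `pt_lin` from the hypotheses here (membership in `Z` gives `IsSc` by `hZsc`; use
`Subgroup.coe_mul`, `Subgroup.coe_pow`, `Subtype.ext`).  Last clause: `y` commutes with every element of `M`, so `op y`
commutes with `spanOp M` (`commute_spanOp`), in particular with `op g`; `op_injective`, `Subtype.ext`.
-/

set_option autoImplicit false

namespace Cfsg.Agent.Helper10.GrossP

open Cfsg.Agent.Helper4.ThB

variable {K : Type*} [Field K] {V : Type*} [AddCommGroup V] [Module K V]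

theorem pt_apply [IsAlgClosed K] [CharP K 2] [FiniteDimensional K V] [Nontrivial V]
    (H : Subgroup (V ≃ₗ[K] V)) [Finite H] (D Z : Subgroup ↥H) (hZD : Z ≤ D)
    (hodd : Odd (Nat.card D)) (hZsc : ∀ z ∈ Z, IsSc ((z : ↥H) : V ≃ₗ[K] V))
    (hsc' : ∀ x ∈ D, IsSc ((x : ↥H) : V ≃ₗ[K] V) → x ∈ Z)
    (hcl : ∀ x ∈ D, ∀ y ∈ D, x * y * x⁻¹ * y⁻¹ ∈ Z)
    (hnd : ∀ x ∈ D, (∀ y ∈ D, x * y = y * x) → x ∈ Z)
    (g : ↥H) (hgD : ∀ x ∈ D, g * x * g⁻¹ ∈ D) (m : ℕ) (hm : 1 ≤ m)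
    (ht : (op ((g : ↥H) : V ≃ₗ[K] V) - 1) ^ (2 ^ m - 1) = 0)
    (hfix : ∀ x ∈ D, g ^ 2 ^ (m - 1) * x = x * g ^ 2 ^ (m - 1) → x ∈ Z)
    (hnt : ∃ x ∈ D, x ∉ Z) :
    Nat.card D = (2 ^ m - 1) ^ 2 * Nat.card Z ∧
      ∀ y : ↥H, (∀ x ∈ D, y * x = x * y) → g * y = y * g := by
  classical
  set M : Subgroup (V ≃ₗ[K] V) := D.map H.subtype with hM
  have hMH : M ≤ H := Subgroup.map_subtype_le D
  have hMfin : Finite M :=
    Finite.of_injective (Subgroup.inclusion hMH) (Subgroup.inclusion_injective hMH)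
  have hcardM : Nat.card M = Nat.card D :=
    Subgroup.card_map_of_injective (Subgroup.subtype_injective H)
  have hoddM : Odd (Nat.card M) := by rw [hcardM]; exact hodd
  have hclM : ∀ x ∈ M, ∀ y ∈ M, IsSc (x * y * x⁻¹ * y⁻¹) := by
    rintro _ ⟨x0, hx0, rfl⟩ _ ⟨y0, hy0, rfl⟩
    exact hZsc _ (hcl x0 hx0 y0 hy0)
  have hndM : ∀ x ∈ M, (∀ y ∈ M, x * y = y * x) → IsSc x := by
    rintro _ ⟨x0, hx0, rfl⟩ hc
    apply hZsc
    apply hnd x0 hx0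
    intro y0 hy0
    apply Subtype.ext
    exact hc _ ⟨y0, hy0, rfl⟩
  have haM : ∀ x ∈ M, ((g : ↥H) : V ≃ₗ[K] V) * x * ((g : ↥H) : V ≃ₗ[K] V)⁻¹ ∈ M := by
    rintro _ ⟨x0, hx0, rfl⟩
    exact ⟨g * x0 * g⁻¹, hgD x0 hx0, rfl⟩
  have hfixM : ∀ x ∈ M, ((g : ↥H) : V ≃ₗ[K] V) ^ 2 ^ (m - 1) * x =
      x * ((g : ↥H) : V ≃ₗ[K] V) ^ 2 ^ (m - 1) → IsSc x := by
    rintro _ ⟨x0, hx0, rfl⟩ hc
    apply hZsc
    apply hfix x0 hx0
    apply Subtype.ext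
    rw [Subgroup.coe_mul, Subgroup.coe_mul, Subgroup.coe_pow]
    exact hc
  have hntM : ∃ x ∈ M, ¬ IsSc x := by
    obtain ⟨x0, hx0, hx0Z⟩ := hnt
    exact ⟨_, ⟨x0, hx0, rfl⟩, fun hs => hx0Z (hsc' x0 hx0 hs)⟩
  obtain ⟨hspan, hcard⟩ := pt_lin M hoddM hclM hndM ((g : ↥H) : V ≃ₗ[K] V) haM m hm ht hfixM hntM
  constructor
  · have hZ' : IsScalSub M (Z.map H.subtype) := by
      intro x
      constructor
      · rintro ⟨z, hz, rfl⟩
        exact ⟨⟨z, hZD hz, rfl⟩, hZsc z hz⟩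
      · rintro ⟨⟨x0, hx0, rfl⟩, hs⟩
        exact ⟨x0, hsc' x0 hx0 hs, rfl⟩
    have h1 := hcard _ hZ'
    rw [hcardM, Subgroup.card_map_of_injective (Subgroup.subtype_injective H)] at h1
    exact h1
  · intro y hy
    have hb : ∀ x ∈ M, op ((y : ↥H) : V ≃ₗ[K] V) * op x = op x * op ((y : ↥H) : V ≃ₗ[K] V) := by
      rintro _ ⟨x0, hx0, rfl⟩
      have h1 := congrArg (fun t : ↥H => ((t : ↥H) : V ≃ₗ[K] V)) (hy x0 hx0)
      simp only [Subgroup.coe_mul] at h1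
      rw [← op_mul, ← op_mul]
      exact congrArg op h1
    have hc : Commute (op ((y : ↥H) : V ≃ₗ[K] V)) (op ((g : ↥H) : V ≃ₗ[K] V)) :=
      commute_spanOp M _ hb hspan
    have h2 : ((y : ↥H) : V ≃ₗ[K] V) * (g : V ≃ₗ[K] V) = (g : V ≃ₗ[K] V) * (y : V ≃ₗ[K] V) := by
      apply op_injective
      rw [op_mul, op_mul]
      exact hc
    apply Subtype.ext
    rw [Subgroup.coe_mul, Subgroup.coe_mul]
    exact h2.symm

end Cfsg.Agent.Helper10.GrossP
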