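import Mathlib
import Cfsg.Agent.Lib.GT.GTDefs
import Cfsg.Agent.Lib.Helper18.SG2Arith

/-!
# Gross (T), block P, piece GP-ARITH (S3801; designer helper10)

Arithmetic: `q ^ k = (2 ^ m - 1) ^ 2 * q ^ l` with `q` an odd prime and `m ≥ 2` forces `q + 1 = 2 ^ m`.
`(2^m-1)^2 = q^(k-l)` (cancel; `k ≥ l` since `(2^m-1)^2 ≥ 1`), so `2^m - 1` divides a power of `q`, hence `2^m - 1 = q^f`
(`(Nat.dvd_prime_pow hq).mp`), `f ≥ 1` since `2^m - 1 ≥ 3`; `q^f + 1 = 2^m` gives `f = 1` by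
`Cfsg.Agent.Helper18.pow_add_one_eq_two_pow (hq : q % 2 = 1) (hq1 : 1 < q) (hb : 1 ≤ b) (h : q ^ b + 1 = 2 ^ k) : b = 1`
(Lib/Helper18/SG2Arith.lean; check the exact name/namespace there).
-/

set_option autoImplicit false

namespace Cfsg.Agent.Helper10.GrossP

open Cfsg.Agent.Helper21.GT

theorem mersenne_of_card (q : ℕ) (hq : q.Prime) (hq2 : q ≠ 2) (m : ℕ) (hm : 2 ≤ m) (k l : ℕ)
    (h : q ^ k = (2 ^ m - 1) ^ 2 * q ^ l) : q + 1 = 2 ^ m := by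
  have h4 : 4 ≤ 2 ^ m := by
    calc 4 = 2 ^ 2 := by norm_num
      _ ≤ 2 ^ m := Nat.pow_le_pow_right (by norm_num) hm
  have hdvd : 2 ^ m - 1 ∣ q ^ k := by
    rw [h, pow_two, mul_assoc]
    exact Dvd.intro _ rfl
  obtain ⟨f, -, hf⟩ := (Nat.dvd_prime_pow hq).mp hdvd
  have hf1 : 1 ≤ f := by
    rcases Nat.eq_zero_or_pos f with h0 | hpos
    · rw [h0, pow_zero] at hf
      omega
    · exact hpos
  have hqf : q ^ f + 1 = 2 ^ m := by rw [← hf]; omega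
  have hqodd : q % 2 = 1 := by
    rcases hq.eq_two_or_odd with h2 | h2
    · exact absurd h2 hq2
    · exact h2
  have := Cfsg.Agent.Helper18.SG2.pow_add_one_eq_two_pow hqodd hq.one_lt hf1 hqf
  rw [this, pow_one] at hqf
  exact hqf

end Cfsg.Agent.Helper10.GrossP
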