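import Mathlib
import Cfsg.Agent.Lib.GT.GTDefs


/-!
# Gross (T), block P, piece GP-CENT (S3801; designer helper10)

An involution centralising the self-centralising normal subgroup `C` of the normal `q`-group `Q` (`q` odd)
centralises `Q`.  For `x ∈ Q` put `c := x * t * x⁻¹ * t⁻¹ = x * (t x⁻¹ t⁻¹) ∈ Q`.  `c` centralises `C`: for `y ∈ C`,
`t⁻¹ y t = y`, `x⁻¹ y x ∈ C` (normal) is fixed by `t`, so `c y c⁻¹ = x t (x⁻¹ y x) t⁻¹ x⁻¹ = y`.  Hence `c ∈ C` (`hself`),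
so `t c = c t`.  From `t x t⁻¹ = c⁻¹ x` and `t * t = 1`: `x = t (t x t⁻¹) t⁻¹ = c⁻¹ c⁻¹ x`, so `c ^ 2 = 1`; `c ∈ Q` has
order a power of the odd prime `q`, so `c = 1`.
-/

set_option autoImplicit false

namespace Cfsg.Agent.Helper10.GrossP

open Cfsg.Agent.Helper21.GT

theorem cent_of_cent_crit {X : Type*} [Group X] [Finite X] {q : ℕ} [Fact q.Prime] (hq2 : q ≠ 2)
    (Q : Subgroup X) [Q.Normal] (hQ : IsPGroup q Q) (C : Subgroup X) [C.Normal] (hCQ : C ≤ Q)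
    (hself : ∀ x ∈ Q, (∀ c ∈ C, x * c = c * x) → x ∈ C) (t : X) (htt : t * t = 1)
    (hc : ∀ c ∈ C, t * c = c * t) : ∀ x ∈ Q, t * x = x * t := by
  intro x hx
  have hQn : Q.Normal := inferInstance
  have hCn : C.Normal := inferInstance
  have htinv : t⁻¹ = t := inv_eq_of_mul_eq_one_right htt
  -- `c := x t x⁻¹ t` (`= [x, t]` as `t⁻¹ = t`)
  have hcQ : x * t * x⁻¹ * t ∈ Q := by
    have h1 : t * x⁻¹ * t⁻¹ ∈ Q := hQn.conj_mem _ (Q.inv_mem hx) t
    have e : x * t * x⁻¹ * t = x * (t * x⁻¹ * t⁻¹) := by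
      rw [htinv]
      group
    rw [e]
    exact Q.mul_mem hx h1
  have hcC : x * t * x⁻¹ * t ∈ C := by
    apply hself _ hcQ
    intro y hy
    have h1 : x⁻¹ * y * x ∈ C := by
      have := hCn.conj_mem y hy x⁻¹
      simpa using this
    have e1 : t * y = y * t := hc y hy
    have e2 : t * (x⁻¹ * y * x) = (x⁻¹ * y * x) * t := hc _ h1
    calc x * t * x⁻¹ * t * y = x * t * x⁻¹ * (t * y) := by group
      _ = x * t * x⁻¹ * (y * t) := by rw [e1]
      _ = x * (t * (x⁻¹ * y * x)) * x⁻¹ * t := by group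
      _ = x * ((x⁻¹ * y * x) * t) * x⁻¹ * t := by rw [e2]
      _ = y * (x * t * x⁻¹ * t) := by group
  have e3 : t * (x * t * x⁻¹ * t) = x * t * x⁻¹ := by
    rw [hc _ hcC]
    calc x * t * x⁻¹ * t * t = x * t * x⁻¹ * (t * t) := by group
      _ = x * t * x⁻¹ := by rw [htt, mul_one]
  have hsq : (x * t * x⁻¹ * t) ^ 2 = 1 := by
    rw [pow_two]
    calc x * t * x⁻¹ * t * (x * t * x⁻¹ * t) = x * t * x⁻¹ * (t * (x * t * x⁻¹ * t)) := by group
      _ = x * t * x⁻¹ * (x * t * x⁻¹) := by rw [e3]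
      _ = x * (t * t) * x⁻¹ := by group
      _ = 1 := by rw [htt]; group
  obtain ⟨k, hk⟩ := hQ ⟨x * t * x⁻¹ * t, hcQ⟩
  have hk' : (x * t * x⁻¹ * t) ^ q ^ k = 1 := by
    have := congrArg Subtype.val hk
    simpa using this
  have hcop : Nat.Coprime (q ^ k) 2 :=
    Nat.Coprime.pow_left k ((Nat.coprime_primes (Fact.out : q.Prime) Nat.prime_two).mpr hq2)
  have hone : x * t * x⁻¹ * t = 1 := by
    have := pow_gcd_eq_one.mpr ⟨hk', hsq⟩
    rw [Nat.Coprime.gcd_eq_one hcop, pow_one] at this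
    exact this
  have e4 : x * t * x⁻¹ = t := by
    have := mul_eq_one_iff_eq_inv.mp hone
    rw [htinv] at this
    exact this
  have e5 : x * t = t * x := mul_inv_eq_iff_eq_mul.mp e4
  exact e5.symm

end Cfsg.Agent.Helper10.GrossP
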