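import Mathlib
import Cfsg.Agent.Lib.GT.GTDefs
import Cfsg.Agent.Lib.Helper10.CriticalGlue

/-!
# Gross (T), block P, piece GP-CRIT (S3801; designer helper10)

Critical subgroup of a normal `q`-subgroup `Q`, in elementwise form.  From
`Cfsg.Agent.Helper10.exists_critical_normal Q hQ` (Lib/Helper10/CriticalGlue.lean): `A` normal, `A ≤ Q`,
`⁅A, A⁆ ≤ centralizer A`, `Q ⊓ centralizer A ≤ zOf A` (`zOf A = A ⊓ centralizer A`).  Commutators of `A` lie in `A` and
in `centralizer A`, i.e. in `zC A` (`Subgroup.commutator_mem_commutator`, `⁅a, b⁆ = a * b * a⁻¹ * b⁻¹`).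
-/

set_option autoImplicit false

namespace Cfsg.Agent.Helper10.GrossP

open Cfsg.Agent.Helper21.GT

theorem exists_crit {X : Type*} [Group X] [Finite X] {q : ℕ} [Fact q.Prime] (Q : Subgroup X)
    [Q.Normal] (hQ : IsPGroup q Q) :
    ∃ C : Subgroup X, C.Normal ∧ C ≤ Q ∧ (∀ a ∈ C, ∀ b ∈ C, a * b * a⁻¹ * b⁻¹ ∈ zC C) ∧
      ∀ x ∈ Q, (∀ c ∈ C, x * c = c * x) → x ∈ C := by
  obtain ⟨A, hAn, hAQ, hA2, -, hA4⟩ := Cfsg.Agent.Helper10.exists_critical_normal Q hQ
  refine ⟨A, hAn, hAQ, ?_, ?_⟩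
  · intro a ha b hb
    have hmem : a * b * a⁻¹ * b⁻¹ ∈ ⁅A, A⁆ := by
      have := Subgroup.commutator_mem_commutator ha hb
      rwa [commutatorElement_def] at this
    refine ⟨?_, ?_⟩
    · exact A.mul_mem (A.mul_mem (A.mul_mem ha hb) (A.inv_mem ha)) (A.inv_mem hb)
    · intro c hc
      have h := hA2 hmem
      rw [Subgroup.mem_centralizer_iff] at h
      exact (h c hc).symm
  · intro x hxQ hx
    have hxc : x ∈ Subgroup.centralizer (A : Set X) := by
      rw [Subgroup.mem_centralizer_iff]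
      intro c hc
      exact (hx c hc).symm
    have := hA4 (Subgroup.mem_inf.2 ⟨hxQ, hxc⟩)
    exact (Subgroup.mem_inf.1 this).1

end Cfsg.Agent.Helper10.GrossP
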