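import Mathlib
import Cfsg.Agent.Lib.GT.GTDefs
import Cfsg.Agent.Lib.Helper1.FittingSolvable
import Cfsg.Agent.Lib.Helper14.GAG40Main
import Cfsg.Agent.Lib.GT.GTENontriv

/-!
# Gross (T), block P, piece GP-FIT (S3801; designer helper10; proved by helper2)

In a finite solvable group with `O_2 = 1` an involution `t` acts nontrivially on some `O_q`, `q` odd.
This is the special case `k = 1` of helper19's `Cfsg.Agent.Helper21.GT.nontriv` (piece GTE-NONTRIV, proved).
-/

set_option autoImplicit false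

namespace Cfsg.Agent.Helper10.GrossP

open Cfsg.Agent.Helper21.GT

theorem exists_noncentral_core {X : Type*} [Group X] [Finite X] (hsolv : Group.IsSolvable X)
    (hO2 : Cfsg.pCore 2 X = ⊥) (t : X) (ht1 : t ≠ 1) (htt : t * t = 1) :
    ∃ q : ℕ, q.Prime ∧ q ≠ 2 ∧ ∃ x ∈ Cfsg.pCore q X, t * x ≠ x * t := by
  exact nontriv hsolv hO2 t ⟨1, by rw [pow_one, pow_two, htt]⟩ ht1

end Cfsg.Agent.Helper10.GrossP
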