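import Mathlib
import Cfsg.Agent.Lib.GT.GTDefs


/-!
# Gross (T), block P, piece GP-MCEN (S3801; designer helper10)

The centre of `C⁻ = cMinus C t` is `zC C` (`t` an involution, `C` a normal `q`-group, `q` odd, class ≤ 2 with
`zC C` central in `X`).  Write `[x, c] := x c x⁻¹ c⁻¹ ∈ zC C` for `x, c ∈ C`.
(1) `[x, c c'] = [x, c] [x, c']` (as `[x, c']` is central).
(2) for `c ∈ C`: `c₋ := c * (t c t⁻¹)⁻¹ ∈ cMinus C t`, indeed `t c₋ t⁻¹ c₋ = (t c t⁻¹)(t t c⁻¹ t⁻¹ t⁻¹) c (t c⁻¹ t⁻¹) = 1` using `t * t = 1`.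
(3) for `x ∈ cMinus C t`, `c ∈ C`: `[x, t c t⁻¹] = t [t⁻¹ x t, c] t⁻¹ = [t x t⁻¹, c]` (central, `t⁻¹ = t`), and
    `t x t⁻¹ = z x⁻¹` (`z ∈ zC C`), so `[x, t c t⁻¹] = [x⁻¹, c] = [x, c]⁻¹` (class 2).  Likewise
    `[x, (t c t⁻¹)⁻¹] = [x, c]`, so by (1) `[x, c₋] = [x, c] * [x, c]`.
(4) if `x` commutes with `cMinus C t` then `[x, c₋] = 1`, so `[x, c] ^ 2 = 1`; `[x, c] ∈ C` has odd order, so `[x, c] = 1`:
    `x` commutes with every `c ∈ C`, i.e. `x ∈ zC C`.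
-/

set_option autoImplicit false

namespace Cfsg.Agent.Helper10.GrossP

open Cfsg.Agent.Helper21.GT

theorem cMinus_center {X : Type*} [Group X] [Finite X] {q : ℕ} [Fact q.Prime] (hq2 : q ≠ 2)
    (C : Subgroup X) [C.Normal] (hC : IsPGroup q C)
    (hZ : ∀ z ∈ zC C, ∀ x : X, z * x = x * z)
    (hcl : ∀ a ∈ C, ∀ b ∈ C, a * b * a⁻¹ * b⁻¹ ∈ zC C) (t : X) (htt : t * t = 1)
    (x : X) (hx : x ∈ cMinus C t) (hcomm : ∀ y ∈ cMinus C t, x * y = y * x) : x ∈ zC C := by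
  obtain ⟨hxC, hxz⟩ := hx
  refine ⟨hxC, ?_⟩
  intro c hc
  have ht : t⁻¹ = t := inv_eq_of_mul_eq_one_right htt
  have htc : t * c * t⁻¹ ∈ C := Subgroup.Normal.conj_mem inferInstance c hc t
  have hyC : c * (t * c * t⁻¹)⁻¹ ∈ C := C.mul_mem hc (C.inv_mem htc)
  have h1Z : (1 : X) ∈ zC C := ⟨C.one_mem, fun a _ => by rw [one_mul, mul_one]⟩
  have hy : c * (t * c * t⁻¹)⁻¹ ∈ cMinus C t := by
    refine ⟨hyC, ?_⟩
    have e : t * (c * (t * c * t⁻¹)⁻¹) * t⁻¹ * (c * (t * c * t⁻¹)⁻¹) = 1 := by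
      calc t * (c * (t * c * t⁻¹)⁻¹) * t⁻¹ * (c * (t * c * t⁻¹)⁻¹)
          = t * c * t * c⁻¹ * (t * t)⁻¹ * c * t * c⁻¹ * t⁻¹ := by group
        _ = t * c * t * c⁻¹ * c * t * c⁻¹ * t⁻¹ := by rw [htt, inv_one, mul_one]
        _ = t * c * (t * t) * c⁻¹ * t⁻¹ := by group
        _ = 1 := by rw [htt]; group
    rw [e]
    exact h1Z
  have hxy := hcomm _ hy
  -- the two central elements
  obtain ⟨w, hw⟩ : ∃ w, x * c * x⁻¹ * c⁻¹ = w := ⟨_, rfl⟩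
  have hwZ : w ∈ zC C := hw ▸ hcl x hxC c hc
  have hwc : ∀ a, w * a = a * w := hZ w hwZ
  obtain ⟨z, hz⟩ : ∃ z, t * x * t⁻¹ * x = z := ⟨_, rfl⟩
  have hzZ : z ∈ zC C := hz ▸ hxz
  have hzc : ∀ a, z * a = a * z := hZ z hzZ
  have hu : t⁻¹ * x * t = z * x⁻¹ := by
    rw [← hz, mul_inv_cancel_right, ht]
  have h2 : z * x⁻¹ * c⁻¹ * (z * x⁻¹)⁻¹ = w * c⁻¹ := by
    calc z * x⁻¹ * c⁻¹ * (z * x⁻¹)⁻¹ = z * (x⁻¹ * c⁻¹ * x) * z⁻¹ := by group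
      _ = (x⁻¹ * c⁻¹ * x) * z * z⁻¹ := by rw [hzc]
      _ = c⁻¹ * (x⁻¹ * (x * c * x⁻¹ * c⁻¹) * x) := by group
      _ = c⁻¹ * (x⁻¹ * w * x) := by rw [hw]
      _ = c⁻¹ * w := by rw [mul_assoc x⁻¹, hwc x, inv_mul_cancel_left]
      _ = w * c⁻¹ := (hwc _).symm
  have key : x * (c * (t * c * t⁻¹)⁻¹) * x⁻¹ = w * w * (c * (t * c * t⁻¹)⁻¹) := by
    calc x * (c * (t * c * t⁻¹)⁻¹) * x⁻¹
        = (x * c * x⁻¹ * c⁻¹) * c * (t * ((t⁻¹ * x * t) * c⁻¹ * (t⁻¹ * x * t)⁻¹) * t⁻¹) := by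
          group
      _ = w * c * (t * (w * c⁻¹) * t⁻¹) := by rw [hw, hu, h2]
      _ = w * c * (t * w * c⁻¹ * t⁻¹) := by group
      _ = w * c * (w * t * c⁻¹ * t⁻¹) := by rw [← hwc t]
      _ = w * (c * w) * (t * c⁻¹ * t⁻¹) := by group
      _ = w * (w * c) * (t * c⁻¹ * t⁻¹) := by rw [← hwc c]
      _ = w * w * (c * (t * c * t⁻¹)⁻¹) := by group
  have hww : w * w = 1 := by
    have h3 : x * (c * (t * c * t⁻¹)⁻¹) * x⁻¹ = c * (t * c * t⁻¹)⁻¹ := by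
      rw [hxy, mul_inv_cancel_right]
    rw [h3] at key
    have h4 : w * w * (c * (t * c * t⁻¹)⁻¹) = 1 * (c * (t * c * t⁻¹)⁻¹) := by
      rw [one_mul]
      exact key.symm
    exact mul_right_cancel h4
  have hwC : w ∈ C := hwZ.1
  have hw1 : w = 1 := by
    obtain ⟨k, hk⟩ := hC ⟨w, hwC⟩
    have hk' : w ^ q ^ k = 1 := by
      have h5 := congrArg Subtype.val hk
      rw [Subgroup.coe_pow] at h5
      exact h5
    have h2' : w ^ 2 = 1 := by rw [pow_two]; exact hww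
    have hcop : Nat.Coprime (q ^ k) 2 :=
      Nat.Coprime.pow_left k ((Nat.coprime_primes Fact.out Nat.prime_two).mpr hq2)
    have h6 : orderOf w ∣ Nat.gcd (q ^ k) 2 :=
      Nat.dvd_gcd (orderOf_dvd_of_pow_eq_one hk') (orderOf_dvd_of_pow_eq_one h2')
    rw [Nat.Coprime.gcd_eq_one hcop] at h6
    exact orderOf_eq_one_iff.mp (Nat.dvd_one.mp h6)
  rw [hw1] at hw
  have h7 := mul_inv_eq_one.mp hw
  exact mul_inv_eq_iff_eq_mul.mp h7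

end Cfsg.Agent.Helper10.GrossP
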