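import Mathlib
import Cfsg.Agent.Lib.GT.GTDefs


/-!
# Gross (T), block P, piece GP-MCONJ (S3801; designer helper10)

`cMinus C t` is normalised by every `g` commuting with `t`: `t (g x g⁻¹) t⁻¹ (g x g⁻¹) = g (t x t⁻¹ x) g⁻¹`
and `g z g⁻¹ = z` for `z ∈ zC C` (central).
-/

set_option autoImplicit false

namespace Cfsg.Agent.Helper10.GrossP

open Cfsg.Agent.Helper21.GT

theorem cMinus_conj {X : Type*} [Group X] (C : Subgroup X) [C.Normal]
    (hZ : ∀ z ∈ zC C, ∀ x : X, z * x = x * z) (t g : X) (hgt : g * t = t * g) :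
    ∀ x ∈ cMinus C t, g * x * g⁻¹ ∈ cMinus C t := by
  rintro x ⟨hxC, hz⟩
  refine ⟨‹C.Normal›.conj_mem x hxC g, ?_⟩
  have hgt' : g⁻¹ * t⁻¹ = t⁻¹ * g⁻¹ := by
    have := congrArg (fun w => w⁻¹) hgt
    simpa [mul_inv_rev] using this.symm
  have hcz := hZ _ hz g
  have e : t * (g * x * g⁻¹) * t⁻¹ * (g * x * g⁻¹) = t * x * t⁻¹ * x := by
    calc t * (g * x * g⁻¹) * t⁻¹ * (g * x * g⁻¹)
        = (t * g) * x * (g⁻¹ * t⁻¹) * g * x * g⁻¹ := by group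
      _ = (g * t) * x * (t⁻¹ * g⁻¹) * g * x * g⁻¹ := by rw [hgt', hgt]
      _ = g * (t * x * t⁻¹ * x) * g⁻¹ := by group
      _ = (t * x * t⁻¹ * x) * g * g⁻¹ := by rw [← hcz]
      _ = t * x * t⁻¹ * x := by group
  rw [e]
  exact hz

end Cfsg.Agent.Helper10.GrossP
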