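import Mathlib
import Cfsg.Agent.Lib.GT.GTDefs


/-!
# Gross (T), block P, piece GP-MFIX (S3801; designer helper10)

(a) an element of `cMinus C t` fixed by `t` lies in `zC C`: `t x t⁻¹ x = x * x ∈ zC C`, `x` has odd order `n` (a power of
`q`), so `x = (x * x) ^ ((n + 1) / 2)` and `zC C` is closed under powers (it is the centre of `C`).
(b) if `t` does not centralise `C` then `cMinus C t ≠ zC C`: take `c ∈ C` with `t c ≠ c t`, `x := c * (t c t⁻¹)⁻¹`; then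
`x ∈ cMinus C t` (`t x t⁻¹ x = 1` using `t * t = 1`, `C` normal).  If `x ∈ zC C`: `t c t⁻¹ = x⁻¹ c` with `x⁻¹` central in `X`,
so `c = t (t c t⁻¹) t⁻¹ = x⁻¹ x⁻¹ c`, `x ^ 2 = 1`, `x = 1` (odd order), `t c = c t`: contradiction.
-/

set_option autoImplicit false

namespace Cfsg.Agent.Helper10.GrossP

open Cfsg.Agent.Helper21.GT

theorem gpmfix_zC_pow {X : Type*} [Group X] (C : Subgroup X) {z : X} (hz : z ∈ zC C) (m : ℕ) :
    z ^ m ∈ zC C := by
  refine ⟨C.pow_mem hz.1 m, fun c hc => ?_⟩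
  exact (Commute.pow_left (show Commute z c from hz.2 c hc) m).eq

theorem gpmfix_odd_root {X : Type*} [Group X] {q : ℕ} [Fact q.Prime] (hq2 : q ≠ 2)
    (C : Subgroup X) (hC : IsPGroup q C) {x : X} (hx : x ∈ C) : ∃ m : ℕ, (x * x) ^ m = x := by
  obtain ⟨k, hk⟩ := hC ⟨x, hx⟩
  have hk' : x ^ q ^ k = 1 := by
    have := congrArg Subtype.val hk
    simpa using this
  have hodd : Odd (q ^ k) := Odd.pow ((Fact.out : q.Prime).odd_of_ne_two hq2)
  obtain ⟨r, hr⟩ := hodd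
  refine ⟨r + 1, ?_⟩
  rw [← pow_two, ← pow_mul]
  have : 2 * (r + 1) = q ^ k + 1 := by omega
  rw [this, pow_succ, hk', one_mul]

theorem cMinus_fixed {X : Type*} [Group X] [Finite X] {q : ℕ} [Fact q.Prime] (hq2 : q ≠ 2)
    (C : Subgroup X) (hC : IsPGroup q C) (t : X)
    (x : X) (hx : x ∈ cMinus C t) (hfix : t * x = x * t) : x ∈ zC C := by
  obtain ⟨hxC, hz⟩ := hx
  have h1 : t * x * t⁻¹ * x = x * x := by rw [hfix, mul_assoc x t, mul_inv_cancel, mul_one]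
  rw [h1] at hz
  obtain ⟨m, hm⟩ := gpmfix_odd_root hq2 C hC hxC
  rw [← hm]
  exact gpmfix_zC_pow C hz m

theorem cMinus_nontrivial {X : Type*} [Group X] [Finite X] {q : ℕ} [Fact q.Prime] (hq2 : q ≠ 2)
    (C : Subgroup X) [C.Normal] (hC : IsPGroup q C)
    (hZ : ∀ z ∈ zC C, ∀ x : X, z * x = x * z) (t : X) (htt : t * t = 1)
    (hnc : ∃ c ∈ C, t * c ≠ c * t) : ∃ x ∈ cMinus C t, x ∉ zC C := by
  obtain ⟨c, hc, hne⟩ := hnc
  have htinv : t⁻¹ = t := inv_eq_of_mul_eq_one_right htt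
  have ht2 : ∀ y, t * (t * y) = y := fun y => by rw [← mul_assoc, htt, one_mul]
  have hconj : t * c * t⁻¹ ∈ C := (inferInstance : C.Normal).conj_mem c hc t
  have hxC : c * (t * c * t⁻¹)⁻¹ ∈ C := C.mul_mem hc (C.inv_mem hconj)
  have h1 : t * (c * (t * c * t⁻¹)⁻¹) * t⁻¹ * (c * (t * c * t⁻¹)⁻¹) = 1 := by
    simp only [mul_assoc, mul_inv_rev, htinv, ht2, inv_mul_cancel_left, mul_inv_cancel_left, htt,
      one_mul, mul_one]
  refine ⟨c * (t * c * t⁻¹)⁻¹, ⟨hxC, ?_⟩, ?_⟩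
  · rw [h1]
    exact ⟨C.one_mem, fun y _ => by rw [one_mul, mul_one]⟩
  · intro hxz
    set x := c * (t * c * t⁻¹)⁻¹ with hxdef
    have h2 : t * c * t⁻¹ = x⁻¹ * c := by rw [hxdef]; group
    have h3 : t * (t * c * t⁻¹) * t⁻¹ = c := by
      simp only [htinv, mul_assoc, ht2, htt, mul_one]
    have hxi : ∀ y, x⁻¹ * y = y * x⁻¹ := fun y =>
      (Commute.inv_left (show Commute x y from hZ x hxz y)).eq
    rw [h2] at h3
    have h4 : t * (x⁻¹ * c) * t⁻¹ = x⁻¹ * (x⁻¹ * c) := by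
      calc t * (x⁻¹ * c) * t⁻¹ = (t * x⁻¹) * c * t⁻¹ := by group
        _ = (x⁻¹ * t) * c * t⁻¹ := by rw [hxi t]
        _ = x⁻¹ * (t * c * t⁻¹) := by group
        _ = x⁻¹ * (x⁻¹ * c) := by rw [h2]
    rw [h4] at h3
    have h5 : x * x = 1 := by
      have h6 : x⁻¹ * x⁻¹ = 1 := by
        have := congrArg (fun y => y * c⁻¹) h3
        simpa [mul_assoc] using this
      calc x * x = x * x * (x⁻¹ * x⁻¹) := by rw [h6, mul_one]
        _ = 1 := by group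
    obtain ⟨m, hm⟩ := gpmfix_odd_root hq2 C hC hxC
    rw [h5, one_pow] at hm
    rw [← hm, inv_one, one_mul] at h2
    apply hne
    calc t * c = t * c * t⁻¹ * t := by group
      _ = c * t := by rw [h2]

end Cfsg.Agent.Helper10.GrossP
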