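import Mathlib
import Cfsg.Agent.Lib.GT.GTDefs


/-!
# Gross (T), block P, piece GP-MSUB (S3801; designer helper10)

`cMinus C t` is (the carrier of) a subgroup containing `zC C`; `zC C` is a subgroup.
Hypotheses: `zC C` central in `X`, commutators of `C` in `zC C`, `C` normal.
mul: if `t x t⁻¹ x = z₁`, `t y t⁻¹ y = z₂` then `t (x y) t⁻¹ (x y) = (z₁ x⁻¹)(z₂ y⁻¹) x y = z₁ z₂ (x⁻¹ y⁻¹ x y)` and
`x⁻¹ y⁻¹ x y` is a commutator of elements of `C`.  inv: `t x⁻¹ t⁻¹ x⁻¹ = (t x t⁻¹)⁻¹ x⁻¹ = (z₁ x⁻¹)⁻¹ x⁻¹ = x z₁⁻¹ x⁻¹ = z₁⁻¹`.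
`z ∈ zC C`: `t z t⁻¹ z = z * z`.
-/

set_option autoImplicit false

namespace Cfsg.Agent.Helper10.GrossP

open Cfsg.Agent.Helper21.GT

theorem exists_zC_subgroup {X : Type*} [Group X] (C : Subgroup X) :
    ∃ Z : Subgroup X, (Z : Set X) = zC C ∧ Z ≤ C := by
  refine ⟨C ⊓ Subgroup.centralizer (C : Set X), ?_, inf_le_left⟩
  ext z
  constructor
  · rintro ⟨h1, h2⟩
    exact ⟨h1, fun c hc => ((Subgroup.mem_centralizer_iff.mp h2) c hc).symm⟩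
  · rintro ⟨h1, h2⟩
    exact ⟨h1, Subgroup.mem_centralizer_iff.mpr (fun c hc => (h2 c hc).symm)⟩

theorem exists_cMinus_subgroup {X : Type*} [Group X] (C : Subgroup X) [C.Normal]
    (hZ : ∀ z ∈ zC C, ∀ x : X, z * x = x * z)
    (hcl : ∀ a ∈ C, ∀ b ∈ C, a * b * a⁻¹ * b⁻¹ ∈ zC C) (t : X) :
    ∃ D : Subgroup X, (D : Set X) = cMinus C t ∧ D ≤ C ∧ zC C ⊆ (D : Set X) := by
  obtain ⟨Z, hZc, -⟩ := exists_zC_subgroup C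
  have hmem : ∀ w : X, w ∈ zC C ↔ w ∈ Z := by
    intro w
    rw [← hZc]
    rfl
  have h1 : (1 : X) ∈ cMinus C t := by
    refine ⟨C.one_mem, ?_⟩
    have h : t * 1 * t⁻¹ * 1 = (1 : X) := by group
    rw [h, hmem]
    exact Z.one_mem
  have hm : ∀ {a b : X}, a ∈ cMinus C t → b ∈ cMinus C t → a * b ∈ cMinus C t := by
    rintro x y ⟨hxC, hxz⟩ ⟨hyC, hyz⟩
    refine ⟨C.mul_mem hxC hyC, ?_⟩
    obtain ⟨z2, hz2⟩ : ∃ z2 : X, z2 = t * y * t⁻¹ * y := ⟨_, rfl⟩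
    rw [← hz2] at hyz
    have hy' : t * y * t⁻¹ = z2 * y⁻¹ := by
      rw [hz2]
      group
    have e : t * (x * y) * t⁻¹ * (x * y) =
        (t * x * t⁻¹ * x) * (x⁻¹ * y⁻¹ * x⁻¹⁻¹ * y⁻¹⁻¹) * z2 := by
      calc t * (x * y) * t⁻¹ * (x * y) = (t * x * t⁻¹) * (t * y * t⁻¹) * (x * y) := by group
        _ = (t * x * t⁻¹) * (z2 * y⁻¹) * (x * y) := by rw [hy']
        _ = (t * x * t⁻¹) * (z2 * (y⁻¹ * x * y)) := by group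
        _ = (t * x * t⁻¹) * ((y⁻¹ * x * y) * z2) := by rw [hZ z2 hyz]
        _ = (t * x * t⁻¹ * x) * (x⁻¹ * y⁻¹ * x⁻¹⁻¹ * y⁻¹⁻¹) * z2 := by group
    rw [e, hmem]
    exact Z.mul_mem (Z.mul_mem ((hmem _).mp hxz)
      ((hmem _).mp (hcl x⁻¹ (C.inv_mem hxC) y⁻¹ (C.inv_mem hyC)))) ((hmem _).mp hyz)
  have hi : ∀ {a : X}, a ∈ cMinus C t → a⁻¹ ∈ cMinus C t := by
    rintro x ⟨hxC, hxz⟩
    refine ⟨C.inv_mem hxC, ?_⟩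
    obtain ⟨z1, hz1⟩ : ∃ z1 : X, z1 = t * x * t⁻¹ * x := ⟨_, rfl⟩
    rw [← hz1] at hxz
    have e : t * x⁻¹ * t⁻¹ * x⁻¹ = z1⁻¹ := by
      calc t * x⁻¹ * t⁻¹ * x⁻¹ = (x * (t * x * t⁻¹ * x) * x⁻¹)⁻¹ := by group
        _ = (x * z1 * x⁻¹)⁻¹ := by rw [hz1]
        _ = (z1 * x * x⁻¹)⁻¹ := by rw [hZ z1 hxz x]
        _ = z1⁻¹ := by group
    rw [e, hmem]
    exact Z.inv_mem ((hmem _).mp hxz)
  refine ⟨{ carrier := cMinus C t, one_mem' := h1, mul_mem' := hm, inv_mem' := hi }, rfl,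
    fun x hx => hx.1, ?_⟩
  intro z hz
  refine ⟨hz.1, ?_⟩
  have e : t * z * t⁻¹ * z = z * z := by
    calc t * z * t⁻¹ * z = (t * z) * t⁻¹ * z := by group
      _ = (z * t) * t⁻¹ * z := by rw [hZ z hz t]
      _ = z * z := by group
  rw [e, hmem]
  exact Z.mul_mem ((hmem _).mp hz) ((hmem _).mp hz)

end Cfsg.Agent.Helper10.GrossP
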