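import Mathlib
import Cfsg.Agent.Lib.GT.GTDefs
import Cfsg.Agent.Lib.S3801P.GPDefs
import Cfsg.Agent.Lib.S3801P.GPScal

/-!
# Gross (T), block P, piece GP-ZSC (S3801; designer helper10)

The centre `zC C` of a normal `q`-subgroup `C` (`q` odd) of the linear group `H` consists of scalars (hypothesis `hsc`:
abelian normal subgroups of odd order are scalar), hence is central in `↥H`.
Proof: `B := ((Subgroup.center C).map C.subtype).map H.subtype ≤ GL(V)` (elements: `(z : V ≃ₗ[K] V)` for `z ∈ zC C`); `B ≤ H`,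
`B` is normalised by `H` (`C` normal, the centre is characteristic: `h z h⁻¹ ∈ C` commutes with `C = h C h⁻¹`), abelian, and
`|B|` divides `|C|`, a power of the odd prime `q`, so `Odd (Nat.card B)`.  Central: scalars commute with everything
(`IsSc.comm`), then `Subtype.ext`.
-/

set_option autoImplicit false

namespace Cfsg.Agent.Helper10.GrossP

open Cfsg.Agent.Helper4.ThB Cfsg.Agent.Helper21.GT

variable {K : Type*} [Field K] {V : Type*} [AddCommGroup V] [Module K V]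

theorem zC_scalar (H : Subgroup (V ≃ₗ[K] V)) [Finite H]
    (hsc : ∀ B : Subgroup (V ≃ₗ[K] V), B ≤ H → (∀ h ∈ H, ∀ b ∈ B, h * b * h⁻¹ ∈ B) →
      (∀ a ∈ B, ∀ b ∈ B, a * b = b * a) → Odd (Nat.card B) →
      ∀ b ∈ B, ∃ c : K, op b = c • (1 : Module.End K V))
    {q : ℕ} [Fact q.Prime] (hq2 : q ≠ 2) (C : Subgroup ↥H) [C.Normal] (hC : IsPGroup q C) :
    (∀ z ∈ zC C, IsSc ((z : ↥H) : V ≃ₗ[K] V)) ∧ ∀ z ∈ zC C, ∀ x : ↥H, z * x = x * z := by
  classical
  set D : Subgroup ↥H := C ⊓ Subgroup.centralizer (C : Set ↥H) with hD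
  have hDn : D.Normal := Subgroup.normal_inf_normal C (Subgroup.centralizer (C : Set ↥H))
  have hzD : ∀ z : ↥H, z ∈ zC C → z ∈ D := by
    rintro z ⟨hzC, hzc⟩
    refine Subgroup.mem_inf.mpr ⟨hzC, ?_⟩
    rw [Subgroup.mem_centralizer_iff]
    intro c hc
    exact (hzc c hc).symm
  set B : Subgroup (V ≃ₗ[K] V) := D.map H.subtype with hB
  have hBH : B ≤ H := Subgroup.map_subtype_le D
  have hBn : ∀ h ∈ H, ∀ b ∈ B, h * b * h⁻¹ ∈ B := by
    rintro h hh _ ⟨z, hz, rfl⟩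
    exact ⟨(⟨h, hh⟩ : ↥H) * z * (⟨h, hh⟩ : ↥H)⁻¹, hDn.conj_mem z hz _, rfl⟩
  have hBab : ∀ a ∈ B, ∀ b ∈ B, a * b = b * a := by
    rintro _ ⟨z1, hz1, rfl⟩ _ ⟨z2, hz2, rfl⟩
    have h1 : z2 * z1 = z1 * z2 :=
      (Subgroup.mem_centralizer_iff.mp (Subgroup.mem_inf.mp hz1).2) z2 (Subgroup.mem_inf.mp hz2).1
    rw [← map_mul, ← map_mul, h1]
  have hBodd : Odd (Nat.card B) := by
    rw [hB, Subgroup.card_map_of_injective (Subgroup.subtype_injective H)]
    have hDp : IsPGroup q D := hC.to_le inf_le_left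
    obtain ⟨j, hj⟩ := hDp.exists_card_eq
    rw [hj]
    exact ((Fact.out : q.Prime).odd_of_ne_two hq2).pow
  have hall := hsc B hBH hBn hBab hBodd
  have hscal : ∀ z ∈ zC C, IsSc ((z : ↥H) : V ≃ₗ[K] V) := by
    intro z hz
    exact hall _ ⟨z, hzD z hz, rfl⟩
  refine ⟨hscal, ?_⟩
  intro z hz x
  apply Subtype.ext
  rw [Subgroup.coe_mul, Subgroup.coe_mul]
  exact (hscal z hz).comm _

end Cfsg.Agent.Helper10.GrossP
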