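import Mathlib
import Cfsg.Agent.Lib.GT.GTDefs
import Cfsg.Agent.Lib.G2L.PrimO2
import Cfsg.Agent.Lib.S3801P.GPFit
import Cfsg.Agent.Lib.S3801P.GPCrit
import Cfsg.Agent.Lib.S3801P.GPCent
import Cfsg.Agent.Lib.S3801P.GPMSub
import Cfsg.Agent.Lib.S3801P.GPMConj
import Cfsg.Agent.Lib.S3801P.GPMCen
import Cfsg.Agent.Lib.S3801P.GPMFix
import Cfsg.Agent.Lib.S3801P.GPArith
import Cfsg.Agent.Lib.S3801P.GPZSc
import Cfsg.Agent.Lib.S3801P.GPApply

/-!
# Gross (T), block P: assembly of the plane torus theorem `pt_out` (S3801; helper10)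
-/

set_option autoImplicit false

namespace Cfsg.Agent.Helper10.GrossP

open Cfsg.Agent.Helper4.ThB Cfsg.Agent.Helper21.GT

universe u v

theorem pt_out_main {K : Type u} [Field K] [IsAlgClosed K] [CharP K 2] {V : Type v} [AddCommGroup V]
    [Module K V] [FiniteDimensional K V] (H : Subgroup (V ≃ₗ[K] V)) [Finite H]
    (hsolv : Group.IsSolvable ↥H) (hirr : Irr (H : Set (V ≃ₗ[K] V)))
    (hsc : ∀ B : Subgroup (V ≃ₗ[K] V), B ≤ H → (∀ h ∈ H, ∀ b ∈ B, h * b * h⁻¹ ∈ B) →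
      (∀ a ∈ B, ∀ b ∈ B, a * b = b * a) → Odd (Nat.card B) →
      ∀ b ∈ B, ∃ c : K, op b = c • (1 : Module.End K V))
    (g : V ≃ₗ[K] V) (hg : g ∈ H) (m : ℕ) (hm : 1 ≤ m) (hgm : g ^ 2 ^ m = 1)
    (ht : (op g - 1) ^ (2 ^ m - 1) = 0) (hg0 : g ^ 2 ^ (m - 1) ≠ 1) :
    PTOut ↥H ⟨g, hg⟩ m := by
  classical
  haveI : Nontrivial V := by
    by_contra hnt
    rw [not_nontrivial_iff_subsingleton] at hnt
    apply hg0
    apply LinearEquiv.ext
    intro v
    exact Subsingleton.elim _ _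
  have hm2 : 2 ≤ m := by
    by_contra hlt
    have hm1 : m = 1 := by omega
    subst hm1
    apply hg0
    have h2 : op g - 1 = 0 := by simpa using ht
    have h3 : op g = op (1 : V ≃ₗ[K] V) := by
      rw [op_one]
      exact sub_eq_zero.mp h2
    have h4 : g = 1 := op_injective h3
    rw [h4, one_pow]
  set γ : ↥H := ⟨g, hg⟩ with hγ
  set t : ↥H := γ ^ 2 ^ (m - 1) with htdef
  have hγm : γ ^ 2 ^ m = 1 := by
    apply Subtype.ext
    rw [Subgroup.coe_pow]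
    exact hgm
  have ht1 : t ≠ 1 := by
    intro h
    apply hg0
    have := congrArg Subtype.val h
    rw [htdef, Subgroup.coe_pow] at this
    exact this
  have htt : t * t = 1 := by
    rw [htdef, ← pow_add, ← two_mul, ← pow_succ']
    have : m - 1 + 1 = m := by omega
    rw [this]
    exact hγm
  have hgt : γ * t = t * γ := by
    rw [htdef]
    exact ((Commute.refl γ).pow_right _).eq
  have hO2 : Cfsg.pCore 2 ↥H = ⊥ := Cfsg.Agent.G2L.irr_pCore_bot H hirr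
  obtain ⟨q, hqp, hq2, x, hxQ, hxt⟩ := exists_noncentral_core hsolv hO2 t ht1 htt
  haveI : Fact q.Prime := ⟨hqp⟩
  have hQn : (Cfsg.pCore q ↥H).Normal := Subgroup.sSup_normal _ (fun _ h => h.1)
  have hQq : IsPGroup q ↥(Cfsg.pCore q ↥H) :=
    Sylow.sSup_of_normal _ (fun _ h => h.2) (fun _ h => h.1)
  obtain ⟨C, hCn, hCQ, hCcl, hCself⟩ := exists_crit (Cfsg.pCore q ↥H) hQq
  haveI := hCn
  have hCq : IsPGroup q C := hQq.to_le hCQ
  have hnc : ∃ c ∈ C, t * c ≠ c * t := by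
    by_contra hcon
    push_neg at hcon
    exact hxt (cent_of_cent_crit hq2 (Cfsg.pCore q ↥H) hQq C hCQ hCself t htt hcon x hxQ)
  obtain ⟨hZsc, hZcen⟩ := zC_scalar H hsc hq2 C hCq
  obtain ⟨Z, hZeq, hZC⟩ := exists_zC_subgroup C
  obtain ⟨D, hDeq, hDC, hZD'⟩ := exists_cMinus_subgroup C hZcen hCcl t
  have memZ : ∀ x, x ∈ Z ↔ x ∈ zC C := by
    intro x
    rw [← hZeq]
    rfl
  have memD : ∀ x, x ∈ D ↔ x ∈ cMinus C t := by
    intro x
    rw [← hDeq]
    rfl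
  have hZD : Z ≤ D := by
    intro z hz
    exact hZD' ((memZ z).1 hz)
  obtain ⟨k, hk⟩ := (IsPGroup.iff_card.mp (hCq.to_le hDC))
  obtain ⟨l, hl⟩ := (IsPGroup.iff_card.mp (hCq.to_le hZC))
  have hqodd : Odd q := hqp.odd_of_ne_two hq2
  have hoddD : Odd (Nat.card D) := by
    rw [hk]
    exact hqodd.pow
  obtain ⟨hcard, hcomm⟩ := pt_apply H D Z hZD hoddD
    (fun z hz => hZsc z ((memZ z).1 hz))
    (fun x hx hxs => by
      rw [memZ]
      refine ⟨hDC hx, ?_⟩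
      intro c _
      apply Subtype.ext
      rw [Subgroup.coe_mul, Subgroup.coe_mul]
      exact hxs.comm _)
    (fun x hx y hy => (memZ _).2 (hCcl x (hDC hx) y (hDC hy)))
    (fun x hx h => (memZ _).2 (cMinus_center hq2 C hCq hZcen hCcl t htt x ((memD x).1 hx)
      (fun y hy => h y ((memD y).2 hy))))
    γ (fun x hx => (memD _).2 (cMinus_conj C hZcen t γ hgt x ((memD x).1 hx))) m hm ht
    (fun x hx h => (memZ _).2 (cMinus_fixed hq2 C hCq t x ((memD x).1 hx) h))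
    (by
      obtain ⟨x, hx, hxz⟩ := cMinus_nontrivial hq2 C hCq hZcen t htt hnc
      exact ⟨x, (memD x).2 hx, fun h => hxz ((memZ x).1 h)⟩)
  have hq1 : q + 1 = 2 ^ m := by
    apply mersenne_of_card q hqp hq2 m hm2 k l
    rw [← hk, ← hl]
    exact hcard
  have e : 2 ^ m - 1 = q := by omega
  rw [e] at hcard
  refine ⟨q, m, C, hqp, hm2, le_rfl, hq1, hCn, hCq, hZcen, hCcl, ?_, ?_⟩
  · have h1 : Nat.card ↥(cMinus C t) = Nat.card D := by
      rw [← hDeq]
      rfl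
    have h2 : Nat.card ↥(zC C) = Nat.card Z := by
      rw [← hZeq]
      rfl
    rw [h1, h2]
    exact hcard
  · intro y _ hy
    exact hcomm y (fun x hx => hy x ((memD x).1 hx))

end Cfsg.Agent.Helper10.GrossP
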